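import Mathlib

/-!
# Chief factors above a normal subgroup inside a subgroup
-/

set_option autoImplicit false
set_option linter.style.haveILetI false

namespace Cfsg.Agent.Char.Berger

universe u

open scoped commutatorElement
open Subgroup (map comap)

variable {G : Type u} [Group G] [Finite G] (L : Subgroup G) [L.Normal]

theorem exists_chief (hsolv : Group.IsSolvable (G ⧸ L)) (H : Subgroup G) (hLH : L < H) :
    ∃ A : Subgroup G, L < A ∧ A ≤ H ∧ (∀ h ∈ H, ∀ a ∈ A, h * a * h⁻¹ ∈ A) ∧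
      (∀ a ∈ A, ∀ b ∈ A, a * b * a⁻¹ * b⁻¹ ∈ L) ∧
      (∀ A' : Subgroup G, L ≤ A' → A' ≤ A → (∀ h ∈ H, ∀ a ∈ A', h * a * h⁻¹ ∈ A') →
        A' = L ∨ A' = A) ∧
      ∃ p : ℕ, p.Prime ∧ ∀ a ∈ A, ∃ m : ℕ, a ^ p ^ m ∈ L := by
  classical
  let S : Set (Subgroup G) := {A | L < A ∧ A ≤ H ∧ ∀ h ∈ H, ∀ a ∈ A, h * a * h⁻¹ ∈ A}
  obtain ⟨A, hA⟩ := (Set.toFinite S).exists_minimal
    ⟨H, hLH, le_rfl, fun h hh a ha => H.mul_mem (H.mul_mem hh ha) (H.inv_mem hh)⟩
  obtain ⟨hLA, hAH, hAn⟩ := hA.1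
  have hmin : ∀ A' : Subgroup G, L ≤ A' → A' ≤ A → (∀ h ∈ H, ∀ a ∈ A', h * a * h⁻¹ ∈ A') →
      A' = L ∨ A' = A := by
    intro A' h1 h2 h3
    rcases eq_or_lt_of_le h1 with e | e
    · exact Or.inl e.symm
    · exact Or.inr (le_antisymm h2 (hA.2 ⟨e, h2.trans hAH, h3⟩ h2))
  let q := QuotientGroup.mk' L
  let Ab := A.map q
  have hmem : ∀ x, q x ∈ Ab ↔ x ∈ A := by
    intro x
    show x ∈ (A.map q).comap q ↔ x ∈ A
    rw [Subgroup.comap_map_eq, QuotientGroup.ker_mk', sup_eq_left.mpr hLA.le]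
  have hAb : Ab ≠ ⊥ := fun h => hLA.not_ge fun x hx => (QuotientGroup.eq_one_iff x).mp
    (show q x = 1 from Subgroup.mem_bot.mp (h ▸ (hmem x).mpr hx))
  have hcomm : ∀ a ∈ A, ∀ b ∈ A, a * b * a⁻¹ * b⁻¹ ∈ L := by
    have hC : ⁅Ab, Ab⁆.comap q = L := by
      refine (hmin _ (fun x hx => ?_) (fun x hx => ?_) fun h hh a ha => ?_).resolve_right fun e => ?_
      · rw [Subgroup.mem_comap, show q x = 1 from (QuotientGroup.eq_one_iff x).mpr hx]
        exact Subgroup.one_mem _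
      · exact (hmem x).mp (Subgroup.commutator_le_self Ab hx)
      · rw [Subgroup.mem_comap, map_mul, map_mul, map_inv]
        have hle : ⁅Ab, Ab⁆ ≤ ⁅Ab, Ab⁆.comap (MulAut.conj (q h)).toMonoidHom := by
          rw [Subgroup.commutator_le]
          intro x hx y hy
          rw [Subgroup.mem_comap, map_commutatorElement]
          obtain ⟨x, hx', rfl⟩ := hx
          obtain ⟨y, hy', rfl⟩ := hy
          refine Subgroup.commutator_mem_commutator ?_ ?_
          · exact ⟨h * x * h⁻¹, hAn h hh x hx', by simp⟩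
          · exact ⟨h * y * h⁻¹, hAn h hh y hy', by simp⟩
        simpa using hle (Subgroup.mem_comap.mp ha)
      · have hle : Ab ≤ ⁅Ab, Ab⁆ := by
          rintro _ ⟨a, ha, rfl⟩
          exact Subgroup.mem_comap.mp (e.ge ha)
        obtain ⟨n, hn⟩ := (Group.isSolvable_def _).mp hsolv
        have hall : ∀ n, Ab ≤ derivedSeries (G ⧸ L) n := by
          intro n
          induction n with
          | zero => exact le_top
          | succ n ih => exact hle.trans (Subgroup.commutator_mono ih ih)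
        exact hAb (le_bot_iff.mp (hn ▸ hall n))
    intro a ha b hb
    rw [← hC, Subgroup.mem_comap]
    simp only [map_mul, map_inv]
    exact Subgroup.commutator_mem_commutator ((hmem a).mpr ha) ((hmem b).mpr hb)
  refine ⟨A, hLA, hAH, hAn, hcomm, hmin, ?_⟩
  haveI : Nontrivial Ab := (Subgroup.nontrivial_iff_ne_bot Ab).mpr hAb
  obtain ⟨p, hp, hpd⟩ := Nat.exists_prime_and_dvd (Finite.one_lt_card (α := Ab)).ne'
  haveI := Fact.mk hp
  refine ⟨p, hp, ?_⟩
  have hc : ∀ a ∈ A, ∀ b ∈ A, Commute (q a) (q b) := by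
    intro a ha b hb
    have h1 : q (a * b * a⁻¹ * b⁻¹) = 1 := (QuotientGroup.eq_one_iff _).mpr (hcomm a ha b hb)
    simp only [map_mul, map_inv] at h1
    exact commutatorElement_eq_one_iff_commute.mp h1
  let A' : Subgroup G :=
    { carrier := {a | a ∈ A ∧ ∃ m, a ^ p ^ m ∈ L}
      one_mem' := ⟨A.one_mem, 0, by simp⟩
      mul_mem' := by
        rintro a b ⟨ha, m, hm⟩ ⟨hb, k, hk⟩
        refine ⟨A.mul_mem ha hb, m + k, (QuotientGroup.eq_one_iff _).mp ?_⟩
        show q ((a * b) ^ p ^ (m + k)) = 1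
        rw [map_pow, map_mul, (hc a ha b hb).mul_pow, pow_add, pow_mul,
          mul_comm (p ^ m) (p ^ k), pow_mul, ← map_pow, ← map_pow q b,
          show q (a ^ p ^ m) = 1 from (QuotientGroup.eq_one_iff _).mpr hm,
          show q (b ^ p ^ k) = 1 from (QuotientGroup.eq_one_iff _).mpr hk, one_pow, one_pow, one_mul]
      inv_mem' := by
        rintro a ⟨ha, m, hm⟩
        exact ⟨A.inv_mem ha, m, by rw [inv_pow]; exact L.inv_mem hm⟩ }
  have hA' : A' = A := by
    refine (hmin A' (fun x hx => ⟨hLA.le hx, 0, by simpa using hx⟩) (fun x hx => hx.1)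
      fun h hh a ha => ⟨hAn h hh a ha.1, ?_⟩).resolve_left fun e => ?_
    · obtain ⟨m, hm⟩ := ha.2
      exact ⟨m, by rw [conj_pow]; exact Subgroup.Normal.conj_mem inferInstance _ hm h⟩
    · obtain ⟨⟨_, x, hx, rfl⟩, hxo⟩ := exists_prime_orderOf_dvd_card' (G := Ab) p hpd
      have hxp : x ^ p ^ 1 ∈ L := by
        refine (QuotientGroup.eq_one_iff _).mp ?_
        show q (x ^ p ^ 1) = 1
        rw [pow_one, map_pow]
        have h2 := pow_orderOf_eq_one (⟨q x, x, hx, rfl⟩ : Ab)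
        rw [hxo] at h2
        exact congrArg Subtype.val h2
      have h1 : x ∈ L := e.le ⟨hx, 1, hxp⟩
      have h2 : (⟨q x, x, hx, rfl⟩ : Ab) = 1 := Subtype.ext ((QuotientGroup.eq_one_iff _).mpr h1)
      rw [h2, orderOf_one] at hxo
      exact hp.ne_one hxo.symm
  intro a ha
  exact (hA'.ge ha).2

/-- The relative index of a chief factor of exponent a power of `p`. -/
theorem relIndex_eq_pow (A : Subgroup G) (p : ℕ) [Fact p.Prime] (hLA : L ≤ A)
    (h : ∀ a ∈ A, ∃ m : ℕ, a ^ p ^ m ∈ L) : ∃ n : ℕ, L.relIndex A = p ^ n := by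
  haveI : (L.subgroupOf A).Normal := inferInstance
  have hP : IsPGroup p (A ⧸ L.subgroupOf A) := by
    intro x
    obtain ⟨a, rfl⟩ := QuotientGroup.mk'_surjective (L.subgroupOf A) x
    obtain ⟨m, hm⟩ := h a a.2
    exact ⟨m, by rw [← map_pow]; exact (QuotientGroup.eq_one_iff _).mpr hm⟩
  obtain ⟨n, hn⟩ := IsPGroup.iff_card.mp hP
  exact ⟨n, by rw [Subgroup.relIndex, Subgroup.index_eq_card, hn]⟩

end Cfsg.Agent.Char.Berger
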