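import Cfsg.Agent.Lib.Char.Induction
import Mathlib.LinearAlgebra.Trace

/-!
# Induced characters and imprimitivity idempotents
-/

set_option autoImplicit false
set_option linter.style.haveILetI false

namespace Cfsg.Agent.Char.Berger

open Cfsg Module

universe u v

variable {G : Type u} [Group G] {V : Type v} [AddCommGroup V] [Module ℂ V]

theorem rho_mul_cancel (ρ : Representation ℂ G V) (g : G) : ρ g * ρ g⁻¹ = 1 := by
  rw [← map_mul, mul_inv_cancel, map_one]

theorem rho_mul_cancel' (ρ : Representation ℂ G V) (g : G) : ρ g⁻¹ * ρ g = 1 := by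
  rw [← map_mul, inv_mul_cancel, map_one]

/-- An imprimitivity idempotent exhibits a character as induced. -/
theorem exists_indFun_of_idem [Fintype G] [FiniteDimensional ℂ V] (ρ : Representation ℂ G V)
    (J : Subgroup G) (ε : End ℂ V) (hid : ε * ε = ε) (hJ : ∀ j ∈ J, Commute (ρ j) ε)
    (hout : ∀ g ∉ J, ρ g * ε * ρ g⁻¹ * ε = 0)
    (hsum : ∑ g, ρ g * ε * ρ g⁻¹ = (Nat.card J : ℂ) • (1 : End ℂ V)) :
    ∃ ξ : J → ℂ, IsCharacter J ξ ∧ indFun J ξ = ρ.character := by
  classical
  let R := LinearMap.range ε
  have hinv : ∀ j : J, ∀ x ∈ R, ρ j x ∈ R := by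
    rintro j _ ⟨y, rfl⟩
    exact ⟨ρ j y, (LinearMap.congr_fun (hJ j j.2).eq y).symm⟩
  let sub : Subrepresentation (ρ.comp J.subtype) := ⟨R, fun j _ hx => hinv j _ hx⟩
  refine ⟨fun j => LinearMap.trace ℂ V (ρ j * ε), ?_, ?_⟩
  · have e : (fun j : J => LinearMap.trace ℂ V (ρ j * ε)) = sub.toRepresentation.character := by
      funext j
      show _ = LinearMap.trace ℂ R (sub.toRepresentation j)
      have h1 : sub.toRepresentation j =
          (ε.rangeRestrict.comp (ρ j)).comp R.subtype := by
        refine LinearMap.ext fun x => Subtype.ext ?_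
        show ρ j x = ε (ρ j x)
        obtain ⟨x, y, rfl⟩ := x
        show ρ j (ε y) = ε (ρ j (ε y))
        have h3 := LinearMap.congr_fun (hJ j j.2).eq (ε y)
        simp only [Module.End.mul_apply] at h3
        rw [← h3, ← Module.End.mul_apply ε ε, hid]
      rw [h1, LinearMap.trace_comp_comm']
      congr 1
      rw [← LinearMap.comp_assoc]
      exact (hJ j j.2).eq
    rw [e]
    exact isCharacter_character _
  · funext g
    have hzero : ∀ y ∉ J, LinearMap.trace ℂ V (ρ y * ε) = 0 := by
      intro y hy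
      have h1 := hout y⁻¹ (fun h => hy (inv_mem_iff.mp h))
      rw [inv_inv] at h1
      have h2 : ε * ρ y * ε = 0 := by
        calc ε * ρ y * ε = ρ y * (ρ y⁻¹ * ε * ρ y * ε) := by
              rw [← mul_assoc, ← mul_assoc, ← mul_assoc, rho_mul_cancel, one_mul]
          _ = 0 := by rw [h1, mul_zero]
      calc LinearMap.trace ℂ V (ρ y * ε) = LinearMap.trace ℂ V (ρ y * ε * ε) := by
            rw [mul_assoc, hid]
        _ = LinearMap.trace ℂ V (ε * (ρ y * ε)) := LinearMap.trace_mul_comm ℂ _ _
        _ = 0 := by rw [← mul_assoc, h2, map_zero]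
    have key : ∀ x : G, extendByZero J (fun j => LinearMap.trace ℂ V (ρ j * ε)) (x⁻¹ * g * x) =
        LinearMap.trace ℂ V (ρ g * (ρ x * ε * ρ x⁻¹)) := by
      intro x
      have h1 : LinearMap.trace ℂ V (ρ g * (ρ x * ε * ρ x⁻¹)) =
          LinearMap.trace ℂ V (ρ (x⁻¹ * g * x) * ε) := by
        rw [← mul_assoc, LinearMap.trace_mul_comm, ← mul_assoc, ← mul_assoc, ← map_mul, ← map_mul]
      rw [h1]
      by_cases hx : x⁻¹ * g * x ∈ J
      · rw [extendByZero_of_mem _ _ hx]
      · rw [extendByZero_of_notMem _ _ hx, hzero _ hx]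
    rw [indFun_apply, Finset.sum_congr rfl fun x _ => key x, ← map_sum, ← Finset.mul_sum, hsum,
      mul_smul_comm, mul_one, map_smul, smul_eq_mul, ← mul_assoc,
      inv_mul_cancel₀ (Nat.cast_ne_zero.mpr Nat.card_pos.ne'), one_mul]
    rfl

variable {W : Type v} [AddCommGroup W] [Module ℂ W]

/-- The space of an induced representation. -/
def indSpace (H : Subgroup G) (σ : Representation ℂ H W) : Submodule ℂ (G → W) where
  carrier := {F | ∀ (h : H) (x : G), F ((h : G) * x) = σ h (F x)}
  add_mem' := fun {a b} ha hb h x => by simp [ha h x, hb h x]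
  zero_mem' := fun h x => by simp
  smul_mem' := fun c a ha h x => by simp [ha h x]

/-- The induced representation. -/
def indRep (H : Subgroup G) (σ : Representation ℂ H W) :
    Representation ℂ G (indSpace H σ) where
  toFun g :=
    { toFun := fun F => ⟨fun x => F.1 (x * g), fun h x => by
        show F.1 ((h : G) * x * g) = σ h (F.1 (x * g))
        rw [mul_assoc]; exact F.2 h (x * g)⟩
      map_add' := fun _ _ => rfl
      map_smul' := fun _ _ => rfl }
  map_one' := LinearMap.ext fun F => Subtype.ext (funext fun x => by simp)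
  map_mul' g g' := LinearMap.ext fun F => Subtype.ext (funext fun x => by simp [mul_assoc])

theorem indRep_apply (H : Subgroup G) (σ : Representation ℂ H W) (g : G) (F : indSpace H σ)
    (x : G) : (indRep H σ g F).1 x = F.1 (x * g) := rfl

/-- The induced representation has an imprimitivity idempotent and the induced character. -/
theorem exists_ind_model [Fintype G] [FiniteDimensional ℂ W] (H : Subgroup G)
    (σ : Representation ℂ H W) :
    FiniteDimensional ℂ (indSpace H σ) ∧ ∃ π : End ℂ (indSpace H σ), π * π = π ∧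
      (∀ h ∈ H, Commute (indRep H σ h) π) ∧
      (∀ g ∉ H, indRep H σ g * π * indRep H σ g⁻¹ * π = 0) ∧
      ∑ g, indRep H σ g * π * indRep H σ g⁻¹ = (Nat.card H : ℂ) • (1 : End ℂ (indSpace H σ)) ∧
      (indRep H σ).character = indFun H σ.character := by
  classical
  have hfd : FiniteDimensional ℂ (indSpace H σ) := inferInstance
  refine ⟨hfd, ?_⟩
  let π : End ℂ (indSpace H σ) :=
    { toFun := fun F => ⟨fun x => if x ∈ H then F.1 x else 0, fun h x => by
        by_cases hx : x ∈ H
        · simp [hx, H.mul_mem h.2 hx, F.2 h x]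
        · have : (h : G) * x ∉ H := fun hm => hx ((Subgroup.mul_mem_cancel_left H h.2).mp hm)
          simp [hx, this]⟩
      map_add' := fun F F' => Subtype.ext (funext fun x => by by_cases hx : x ∈ H <;> simp [hx])
      map_smul' := fun c F => Subtype.ext (funext fun x => by by_cases hx : x ∈ H <;> simp [hx]) }
  have hπ : ∀ F x, (π F).1 x = if x ∈ H then F.1 x else 0 := fun _ _ => rfl
  have hconj : ∀ g F x, ((indRep H σ g * π * indRep H σ g⁻¹) F).1 x =
      if x * g ∈ H then F.1 x else 0 := by
    intro g F x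
    simp [Module.End.mul_apply, indRep_apply, hπ, mul_assoc]
  have hid : π * π = π := LinearMap.ext fun F => Subtype.ext (funext fun x => by
    rw [Module.End.mul_apply]; simp only [hπ]; split_ifs <;> rfl)
  have hcomm : ∀ h ∈ H, Commute (indRep H σ h) π := fun h hh => LinearMap.ext fun F =>
    Subtype.ext (funext fun x => by
      simp [Module.End.mul_apply, indRep_apply, hπ, Subgroup.mul_mem_cancel_right H hh])
  have hout : ∀ g ∉ H, indRep H σ g * π * indRep H σ g⁻¹ * π = 0 := fun g hg =>
    LinearMap.ext fun F => Subtype.ext (funext fun x => by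
      rw [Module.End.mul_apply, hconj, hπ]
      by_cases hx : x ∈ H
      · rw [if_neg fun h => hg ((Subgroup.mul_mem_cancel_left H hx).mp h)]; simp
      · simp [hx])
  have hsum : ∑ g, indRep H σ g * π * indRep H σ g⁻¹ =
      (Nat.card H : ℂ) • (1 : End ℂ (indSpace H σ)) :=
    LinearMap.ext fun F => Subtype.ext (funext fun x => by
      simp only [LinearMap.coe_sum, Finset.sum_apply, AddSubmonoidClass.coe_finsetSum, hconj,
        LinearMap.smul_apply, Module.End.one_apply, SetLike.val_smul, Pi.smul_apply]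
      rw [Finset.sum_ite, Finset.sum_const_zero, add_zero, Finset.sum_const,
        ← Nat.cast_smul_eq_nsmul ℂ]
      congr 2
      rw [← Fintype.card_subtype, ← Nat.card_eq_fintype_card]
      exact Nat.card_congr ((Equiv.mulLeft x).subtypeEquiv (q := (· ∈ H)) fun _ => Iff.rfl))
  refine ⟨π, hid, hcomm, hout, hsum, ?_⟩
  let ext0 : W →ₗ[ℂ] indSpace H σ :=
    { toFun := fun w => ⟨fun x => if hx : x ∈ H then σ ⟨x, hx⟩ w else 0, fun h x => by
        by_cases hx : x ∈ H
        · simp only [dif_pos hx, dif_pos (H.mul_mem h.2 hx)]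
          rw [← Module.End.mul_apply, ← map_mul]
          rfl
        · have : (h : G) * x ∉ H := fun hm => hx ((Subgroup.mul_mem_cancel_left H h.2).mp hm)
          simp [hx, this]⟩
      map_add' := fun w w' => Subtype.ext (funext fun x => by by_cases hx : x ∈ H <;> simp [hx])
      map_smul' := fun c w => Subtype.ext (funext fun x => by by_cases hx : x ∈ H <;> simp [hx]) }
  let ev : indSpace H σ →ₗ[ℂ] W := (LinearMap.proj 1).comp (indSpace H σ).subtype
  have htr : ∀ h : H, LinearMap.trace ℂ _ (indRep H σ h * π) = σ.character h := by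
    intro h
    have h1 : indRep H σ h * π = ext0.comp ((σ h).comp ev) := by
      refine LinearMap.ext fun F => Subtype.ext (funext fun x => ?_)
      show (if x * (h : G) ∈ H then F.1 (x * h) else 0) =
        (if hx : x ∈ H then σ ⟨x, hx⟩ (σ h (F.1 1)) else 0)
      by_cases hx : x ∈ H
      · rw [if_pos (H.mul_mem hx h.2), dif_pos hx, ← Module.End.mul_apply, ← map_mul,
          ← F.2 (⟨x, hx⟩ * h) 1, mul_one]
        rfl
      · rw [if_neg fun h' => hx ((Subgroup.mul_mem_cancel_right H h.2).mp h'), dif_neg hx]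
    have h2 : ev.comp ext0 = LinearMap.id := LinearMap.ext fun w => by
      show (if hx : (1 : G) ∈ H then σ ⟨1, hx⟩ w else 0) = w
      rw [dif_pos H.one_mem, show (⟨1, H.one_mem⟩ : H) = 1 from rfl, map_one]
      rfl
    rw [h1, LinearMap.trace_comp_comm', LinearMap.comp_assoc, h2, LinearMap.comp_id]
    rfl
  funext g
  have hzero : ∀ y ∉ H, LinearMap.trace ℂ _ (indRep H σ y * π) = 0 := by
    intro y hy
    have h2 : π * indRep H σ y * π = 0 := LinearMap.ext fun F => Subtype.ext (funext fun x => by
      simp only [Module.End.mul_apply, hπ, indRep_apply]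
      by_cases hx : x ∈ H
      · rw [if_pos hx, if_neg fun h => hy ((Subgroup.mul_mem_cancel_left H hx).mp h)]; simp
      · simp [hx])
    calc LinearMap.trace ℂ _ (indRep H σ y * π)
        = LinearMap.trace ℂ _ (indRep H σ y * π * π) := by rw [mul_assoc, hid]
      _ = LinearMap.trace ℂ _ (π * (indRep H σ y * π)) := LinearMap.trace_mul_comm ℂ _ _
      _ = 0 := by rw [← mul_assoc, h2, map_zero]
  have key : ∀ x : G, extendByZero H σ.character (x⁻¹ * g * x) =
      LinearMap.trace ℂ _ (indRep H σ g * (indRep H σ x * π * indRep H σ x⁻¹)) := by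
    intro x
    have h1 : LinearMap.trace ℂ _ (indRep H σ g * (indRep H σ x * π * indRep H σ x⁻¹)) =
        LinearMap.trace ℂ _ (indRep H σ (x⁻¹ * g * x) * π) := by
      rw [← mul_assoc, LinearMap.trace_mul_comm, ← mul_assoc, ← mul_assoc, ← map_mul, ← map_mul]
    rw [h1]
    by_cases hx : x⁻¹ * g * x ∈ H
    · rw [extendByZero_of_mem _ _ hx]; exact (htr ⟨_, hx⟩).symm
    · rw [extendByZero_of_notMem _ _ hx, hzero _ hx]
  rw [indFun_apply, Finset.sum_congr rfl fun x _ => key x, ← map_sum, ← Finset.mul_sum, hsum,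
    mul_smul_comm, mul_one, map_smul, smul_eq_mul, ← mul_assoc,
    inv_mul_cancel₀ (Nat.cast_ne_zero.mpr Nat.card_pos.ne'), one_mul]
  rfl

end Cfsg.Agent.Char.Berger
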