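import Cfsg.Agent.Lib.Char.Equiv
import Mathlib.RepresentationTheory.Irreducible
import Mathlib.LinearAlgebra.Pi
import Mathlib.LinearAlgebra.Matrix.ToLin

/-!
# Isotypic representations: the two commuting algebras
-/

set_option autoImplicit false
set_option linter.style.haveILetI false

namespace Cfsg.Agent.Char.Berger

open Cfsg Module

universe u v w

variable {G : Type u} [Group G] {V : Type v} {W : Type w} [AddCommGroup V] [Module ℂ V]
  [AddCommGroup W] [Module ℂ W]

/-- An endomorphism commuting with an irreducible representation is a scalar. -/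
theorem scalar_of_commute [FiniteDimensional ℂ W] (τ : Representation ℂ G W) [τ.IsIrreducible]
    (T : End ℂ W) (hT : ∀ g, Commute T (τ g)) : ∃ c : ℂ, T = c • 1 := by
  let f : Representation.IntertwiningMap τ τ :=
    { toLinearMap := T, isIntertwining' := fun g => (hT g).eq }
  obtain ⟨c, hc⟩ :=
    (Representation.IsIrreducible.algebraMap_intertwiningMap_bijective_of_isAlgClosed (ρ := τ)).2 f
  exact ⟨c, (congrArg Representation.IntertwiningMap.toLinearMap hc).symm⟩

/-- The diagonal action of endomorphisms on a power. -/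
noncomputable def diagEnd (m : ℕ) : End ℂ W →ₐ[ℂ] End ℂ (Fin m → W) where
  toFun b := LinearMap.pi fun i => b ∘ₗ LinearMap.proj i
  map_one' := rfl
  map_mul' _ _ := rfl
  map_zero' := rfl
  map_add' _ _ := rfl
  commutes' _ := rfl

theorem diagEnd_apply {m : ℕ} (b : End ℂ W) (x : Fin m → W) (i : Fin m) :
    diagEnd m b x i = b (x i) := rfl

/-- The action of matrices on a power. -/
noncomputable def matEnd (m : ℕ) : Matrix (Fin m) (Fin m) ℂ →ₐ[ℂ] End ℂ (Fin m → W) where
  toFun M := LinearMap.pi fun i => ∑ j, M i j • LinearMap.proj j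
  map_one' := LinearMap.ext fun x => funext fun i => by simp [Matrix.one_apply]
  map_mul' M N := LinearMap.ext fun x => funext fun i => by
    simp only [LinearMap.pi_apply, LinearMap.coe_sum, Finset.sum_apply, LinearMap.smul_apply,
      LinearMap.proj_apply, Matrix.mul_apply, Module.End.mul_apply, Finset.sum_smul,
      Finset.smul_sum, smul_smul]
    exact Finset.sum_comm
  map_zero' := LinearMap.ext fun x => funext fun i => by simp
  map_add' M N := LinearMap.ext fun x => funext fun i => by
    simp [add_smul, Finset.sum_add_distrib]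
  commutes' c := LinearMap.ext fun x => funext fun i => by
    simp [Matrix.algebraMap_matrix_apply, ite_smul]

theorem matEnd_apply {m : ℕ} (M : Matrix (Fin m) (Fin m) ℂ) (x : Fin m → W) (i : Fin m) :
    matEnd m M x i = ∑ j, M i j • x j := by
  simp [matEnd]

theorem matEnd_single {m : ℕ} (r s : Fin m) (x : Fin m → W) :
    matEnd m (Matrix.single r s (1 : ℂ)) x = Pi.single r (x s) := by
  funext i
  rw [matEnd_apply, Finset.sum_eq_single s]
  · by_cases hi : r = i
    · subst hi; simp
    · simp [hi, Ne.symm hi]
  · intro j _ hj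
    simp [Ne.symm hj]
  · simp

/-- The diagonal representation on a power. -/
noncomputable def powRep (m : ℕ) (τ : Representation ℂ G W) : Representation ℂ G (Fin m → W) :=
  (diagEnd m).toMonoidHom.comp τ

theorem character_powRep [FiniteDimensional ℂ W] (m : ℕ) (τ : Representation ℂ G W) :
    (powRep m τ).character = (m : ℂ) • τ.character := by
  funext g
  let b := Module.finBasis ℂ W
  show LinearMap.trace ℂ _ (diagEnd m (τ g)) = (m : ℂ) * LinearMap.trace ℂ W (τ g)
  rw [LinearMap.trace_eq_matrix_trace ℂ (Pi.basis fun _ : Fin m => b),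
    LinearMap.trace_eq_matrix_trace ℂ b, Matrix.trace, Matrix.trace]
  simp [Fintype.sum_sigma, LinearMap.toMatrix_apply, Pi.basis_apply, Pi.basis_repr, diagEnd_apply]

/-- A representation with a multiple of an irreducible character is isotypic: its commutant is a
matrix algebra and the double commutant is the endomorphism algebra of the irreducible one. -/
theorem exists_isotypic [Finite G] [FiniteDimensional ℂ V] [FiniteDimensional ℂ W]
    (ρ : Representation ℂ G V) (τ : Representation ℂ G W) [τ.IsIrreducible] [Nontrivial W]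
    (m : ℕ) (h : ρ.character = (m : ℂ) • τ.character) :
    ∃ (j : End ℂ W →ₐ[ℂ] End ℂ V) (κ : End ℂ (Fin m → ℂ) →ₐ[ℂ] End ℂ V),
      (∀ g, j (τ g) = ρ g) ∧ (0 < m → Function.Injective j) ∧ Function.Injective κ ∧
      (∀ M g, Commute (κ M) (ρ g)) ∧ (∀ T, (∀ g, Commute T (ρ g)) → ∃ M, κ M = T) ∧
      (∀ b M, Commute (j b) (κ M)) ∧ (∀ S, (∀ M, Commute S (κ M)) → ∃ b, j b = S) := by
  classical
  haveI := Fintype.ofFinite G
  obtain ⟨T⟩ := nonempty_equiv_of_character_eq_aux _ ρ (powRep m τ) rfl
    (h.trans (character_powRep m τ).symm)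
  let e : End ℂ (Fin m → W) ≃ₐ[ℂ] End ℂ V := T.toLinearEquiv.symm.conjAlgEquiv ℂ
  have hTg : ∀ g, e (diagEnd m (τ g)) = ρ g := by
    intro g
    refine LinearMap.ext fun x => ?_
    show T.toLinearEquiv.symm (powRep m τ g (T.toLinearEquiv x)) = ρ g x
    rw [LinearEquiv.symm_apply_eq]
    exact (LinearMap.congr_fun (T.toIntertwiningMap.isIntertwining' g) x).symm
  let mt : End ℂ (Fin m → ℂ) ≃ₐ[ℂ] Matrix (Fin m) (Fin m) ℂ := LinearMap.toMatrixAlgEquiv'
  refine ⟨e.toAlgHom.comp (diagEnd m), e.toAlgHom.comp ((matEnd m).comp mt.toAlgHom), hTg,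
    fun hm => ?_, ?_, fun M g => ?_, fun S hS => ?_, fun b M => ?_, fun S hS => ?_⟩
  · intro b b' hb
    refine LinearMap.ext fun w => ?_
    have := congrFun (LinearMap.congr_fun (e.injective hb) (fun _ => w)) ⟨0, hm⟩
    exact this
  · intro M M' hM
    apply mt.injective
    obtain ⟨w, hw⟩ := exists_ne (0 : W)
    refine Matrix.ext fun r s => ?_
    have := congrFun (LinearMap.congr_fun (e.injective hM) (Pi.single s w)) r
    change matEnd m (mt M) (Pi.single s w) r = matEnd m (mt M') (Pi.single s w) r at this
    simp only [matEnd_apply, Pi.single_apply, smul_ite, smul_zero, Finset.sum_ite_eq',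
      Finset.mem_univ, if_true] at this
    exact smul_left_injective ℂ hw this
  · rw [← hTg g]
    show Commute (e (matEnd m (mt M))) (e (diagEnd m (τ g)))
    refine Commute.map ?_ e
    refine LinearMap.ext fun x => funext fun i => ?_
    simp [Module.End.mul_apply, matEnd_apply, diagEnd_apply, map_sum]
  · obtain ⟨S₀, rfl⟩ := e.surjective S
    have hS₀ : ∀ g x i, S₀ (diagEnd m (τ g) x) i = τ g (S₀ x i) := by
      intro g x i
      have := hS g
      rw [← hTg g] at this
      exact congrFun (LinearMap.congr_fun (e.injective (by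
        rw [map_mul, map_mul]; exact this.eq) : S₀ * diagEnd m (τ g) = diagEnd m (τ g) * S₀) x) i
    have hblock : ∀ i k, ∃ c : ℂ, (LinearMap.proj i).comp (S₀.comp (LinearMap.single ℂ _ k)) =
        c • (1 : End ℂ W) := by
      intro i k
      refine scalar_of_commute τ _ fun g => LinearMap.ext fun w => ?_
      have hs : Pi.single k (τ g w) = diagEnd m (τ g) (Pi.single k w) := by
        funext l
        by_cases hl : l = k
        · subst hl; simp [diagEnd_apply]
        · simp [diagEnd_apply, Pi.single_eq_of_ne hl]
      show S₀ (Pi.single k (τ g w)) i = τ g (S₀ (Pi.single k w) i)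
      rw [hs, hS₀]
    choose c hc using hblock
    refine ⟨mt.symm (Matrix.of c), ?_⟩
    show e (matEnd m (mt (mt.symm (Matrix.of c)))) = e S₀
    rw [AlgEquiv.apply_symm_apply]
    congr 1
    refine LinearMap.pi_ext fun k w => funext fun i => ?_
    have hk : S₀ (Pi.single k w) i = c i k • w := by simpa using LinearMap.congr_fun (hc i k) w
    rw [hk, matEnd_apply, Finset.sum_eq_single k]
    · simp
    · intro l _ hl; simp [Pi.single_eq_of_ne hl]
    · simp
  · show Commute (e (diagEnd m b)) (e (matEnd m (mt M)))
    refine Commute.map ?_ e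
    refine LinearMap.ext fun x => funext fun i => ?_
    simp [Module.End.mul_apply, matEnd_apply, diagEnd_apply, map_sum]
  · obtain ⟨S₀, rfl⟩ := e.surjective S
    have hS₀ : ∀ r s x, S₀ (Pi.single r (x s)) = Pi.single r (S₀ x s) := by
      intro r s x
      have h1 := hS (mt.symm (Matrix.single r s 1))
      have h2 : S₀ * matEnd m (Matrix.single r s 1) = matEnd m (Matrix.single r s 1) * S₀ := by
        refine e.injective ?_
        rw [map_mul, map_mul]
        simpa using h1.eq
      have h3 := LinearMap.congr_fun h2 x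
      rwa [Module.End.mul_apply, Module.End.mul_apply, matEnd_single, matEnd_single] at h3
    rcases Nat.eq_zero_or_pos m with hm | hm
    · subst hm
      exact ⟨0, e.toAlgHom.congr_arg (LinearMap.ext fun x => funext fun i => i.elim0)⟩
    let o : Fin m := ⟨0, hm⟩
    refine ⟨(LinearMap.proj o).comp (S₀.comp (LinearMap.single ℂ _ o)), ?_⟩
    show e (diagEnd m _) = e S₀
    congr 1
    refine LinearMap.pi_ext fun k w => funext fun i => ?_
    rw [diagEnd_apply]
    show S₀ (Pi.single o ((Pi.single k w : Fin m → W) i)) o = S₀ (Pi.single k w) i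
    rw [hS₀ o i]
    simp

end Cfsg.Agent.Char.Berger
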