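import Cfsg.Agent.Lib.Char.Berger.Step

/-!
# Berger's theorem: quasiprimitive characters of solvable groups are primitive
-/

set_option autoImplicit false
set_option linter.style.haveILetI false

namespace Cfsg.Agent.Char.Berger

open Cfsg

universe u

/-- A character homogeneous on all normal subgroups above `L₀` with solvable quotient is not
induced from a proper subgroup containing `L₀`. -/
theorem not_induced {G : Type u} [Group G] [Fintype G] (L₀ : Subgroup G) [L₀.Normal]
    (hsolv : Group.IsSolvable (G ⧸ L₀)) {χ : G → ℂ} (hχ : IsIrrCharacter G χ)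
    (hom : ∀ M : Subgroup G, M.Normal → L₀ ≤ M → ∃ (φ : M → ℂ) (e : ℕ),
      IsIrrCharacter M φ ∧ (fun m : M => χ m) = (e : ℂ) • φ)
    (J : Subgroup G) (hJ : J ≠ ⊤) (hLJ : L₀ ≤ J) (ξ : J → ℂ) (hξ : IsCharacter J ξ) :
    indFun J ξ ≠ χ := by
  classical
  suffices key : ∀ (n : ℕ) (J : Subgroup G), Nat.card G - Nat.card J.normalCore = n → J ≠ ⊤ →
      L₀ ≤ J → ∀ ξ : J → ℂ, IsCharacter J ξ → indFun J ξ ≠ χ from key _ J rfl hJ hLJ ξ hξ
  intro n
  induction n using Nat.strong_induction_on with
  | _ n ih =>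
    intro J hn hJ hLJ ξ hξ hind
    obtain ⟨H, hH, hJH⟩ := (eq_top_or_exists_le_coatom J).resolve_left hJ
    haveI := Fintype.ofFinite H
    let ξ' : J.subgroupOf H → ℂ := fun x => ξ ⟨(x : H), Subgroup.mem_subgroupOf.mp x.2⟩
    have hψ : IsCharacter H (indFun (J.subgroupOf H) ξ') := isCharacter_indFun _
      (isCharacter_comp hξ
        ({ toFun := fun x => ⟨(x : H), Subgroup.mem_subgroupOf.mp x.2⟩, map_one' := rfl,
           map_mul' := fun _ _ => rfl } : J.subgroupOf H →* J))
    have hind' : indFun H (indFun (J.subgroupOf H) ξ') = χ := (indFun_trans J H hJH ξ).trans hind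
    have hL₀ : L₀ ≤ H.normalCore := Subgroup.normal_le_normalCore.mpr (hLJ.trans hJH)
    haveI := hsolv
    have hsolv' : Group.IsSolvable (G ⧸ H.normalCore) :=
      solvable_of_surjective (f := QuotientGroup.map L₀ H.normalCore (MonoidHom.id G) hL₀)
        (fun x => by
          obtain ⟨g, rfl⟩ := QuotientGroup.mk'_surjective H.normalCore x
          exact ⟨QuotientGroup.mk' L₀ g, rfl⟩)
    obtain ⟨K, J', hKn, hLK, hKJ, hJ', ξ'', hξ'', hind''⟩ := berger_step H.normalCore H
      H.normalCore_le hH (fun N hN h => Subgroup.normal_le_normalCore.mpr h) hsolv' hχ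
      (fun M hM h => hom M hM (hL₀.trans h)) hψ hind'
    haveI := hKn
    have h1 : J.normalCore ≤ H.normalCore := Subgroup.normalCore_mono hJH
    have h2 : J.normalCore < J'.normalCore :=
      lt_of_lt_of_le (h1.trans_lt hLK) (Subgroup.normal_le_normalCore.mpr hKJ)
    have h3 : Nat.card J.normalCore < Nat.card J'.normalCore := by
      refine lt_of_le_of_ne (Nat.le_of_dvd Nat.card_pos (Subgroup.card_dvd_of_le h2.le)) fun e => ?_
      exact h2.ne (Subgroup.eq_of_le_of_card_ge h2.le e.ge)
    have h4 : Nat.card J'.normalCore ≤ Nat.card G := Subgroup.card_le_card_group _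
    exact ih (Nat.card G - Nat.card J'.normalCore) (by omega) J' rfl hJ'
      ((hL₀.trans hLK.le).trans hKJ) ξ'' hξ'' hind''

end Cfsg.Agent.Char.Berger
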