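import Cfsg.Agent.Lib.Char.Linear
import Mathlib.LinearAlgebra.GeneralLinearGroup.AlgEquiv
import Mathlib.LinearAlgebra.Determinant

/-!
# Weight idempotents of a coprime group of inner automorphisms
-/

set_option autoImplicit false
set_option linter.style.haveILetI false

namespace Cfsg.Agent.Char.Berger

open Cfsg Module

universe u

/-- An endomorphism commuting with all others is a scalar. -/
theorem scalar_of_central {e : ℕ} (he : 0 < e) (u : End ℂ (Fin e → ℂ))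
    (h : ∀ M : End ℂ (Fin e → ℂ), Commute u M) : ∃ c : ℂ, u = c • 1 := by
  let o : Fin e := ⟨0, he⟩
  let v : Fin e → ℂ := Pi.single o 1
  refine ⟨u v o, LinearMap.ext fun w => ?_⟩
  have h1 := LinearMap.congr_fun (h ((LinearMap.proj o).smulRight w)).eq v
  simpa [Module.End.mul_apply, v] using h1

/-- Every automorphism of a full endomorphism algebra is inner. -/
theorem exists_unit_conj {e : ℕ} (f : End ℂ (Fin e → ℂ) ≃ₐ[ℂ] End ℂ (Fin e → ℂ)) :
    ∃ u : (End ℂ (Fin e → ℂ))ˣ, ∀ M, f M = u * M * ↑u⁻¹ := by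
  obtain ⟨T, hT⟩ := f.eq_linearEquivConjAlgEquiv
  exact ⟨LinearMap.GeneralLinearGroup.ofLinearEquiv T, fun M => by rw [hT]; rfl⟩

/-- The normalized lift of an inner automorphism. -/
def IsLift {e : ℕ} (N : ℕ) (f : End ℂ (Fin e → ℂ) ≃ₐ[ℂ] End ℂ (Fin e → ℂ))
    (u : (End ℂ (Fin e → ℂ))ˣ) : Prop :=
  (∀ M : End ℂ (Fin e → ℂ), f M = u * M * ↑u⁻¹) ∧ u ^ N = 1 ∧
    LinearMap.det (u : End ℂ (Fin e → ℂ)) = 1

theorem det_smul_one {e : ℕ} (z : ℂ) : LinearMap.det (z • (1 : End ℂ (Fin e → ℂ))) = z ^ e := by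
  rw [LinearMap.det_smul, finrank_fin_fun]
  simp

variable {e N : ℕ} {f : End ℂ (Fin e → ℂ) ≃ₐ[ℂ] End ℂ (Fin e → ℂ)}

theorem IsLift.unique (he : 0 < e) (hco : Nat.Coprime e N) {u u' : (End ℂ (Fin e → ℂ))ˣ}
    (h : IsLift N f u) (h' : IsLift N f u') : u = u' := by
  have hc : ∀ M : End ℂ (Fin e → ℂ), Commute ((u⁻¹ * u' : (End ℂ (Fin e → ℂ))ˣ) : End ℂ (Fin e → ℂ)) M := by
    intro M
    show _ * M = M * _
    have h1 : (u' : End ℂ (Fin e → ℂ)) * M * ↑u'⁻¹ = u * M * ↑u⁻¹ := (h'.1 M).symm.trans (h.1 M)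
    rw [Units.val_mul, mul_assoc]
    calc (↑u⁻¹ : End ℂ (Fin e → ℂ)) * ((u' : End ℂ (Fin e → ℂ)) * M)
        = ↑u⁻¹ * ((u' : End ℂ (Fin e → ℂ)) * M * ↑u'⁻¹) * u' := by simp [mul_assoc]
      _ = ↑u⁻¹ * (u * M * ↑u⁻¹) * u' := by rw [h1]
      _ = M * (↑u⁻¹ * u') := by simp [← mul_assoc]
  obtain ⟨z, hz⟩ := scalar_of_central he _ hc
  have hu' : (u' : End ℂ (Fin e → ℂ)) = z • (u : End ℂ (Fin e → ℂ)) := by
    have h1 : (u' : End ℂ (Fin e → ℂ)) = u * ((u⁻¹ * u' : (End ℂ (Fin e → ℂ))ˣ) : End ℂ (Fin e → ℂ)) := by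
      rw [← Units.val_mul]; simp
    rw [h1, hz, mul_smul_comm, mul_one]
  have hzN : z ^ N = 1 := by
    have h1 := congrArg (fun w : (End ℂ (Fin e → ℂ))ˣ => (w : End ℂ (Fin e → ℂ))) h'.2.1
    simp only [Units.val_pow_eq_pow_val, Units.val_one] at h1
    have h2 := congrArg (fun w : (End ℂ (Fin e → ℂ))ˣ => (w : End ℂ (Fin e → ℂ))) h.2.1
    simp only [Units.val_pow_eq_pow_val, Units.val_one] at h2
    rw [hu', smul_pow, h2] at h1
    haveI : Nonempty (Fin e) := ⟨⟨0, he⟩⟩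
    exact smul_left_injective ℂ (one_ne_zero (α := End ℂ (Fin e → ℂ))) (h1.trans (one_smul _ _).symm)
  have hze : z ^ e = 1 := by
    have h1 := h'.2.2
    rw [hu', LinearMap.det_smul, finrank_fin_fun, h.2.2, mul_one] at h1
    exact h1
  have hz1 : z = 1 := by
    have := pow_gcd_eq_one.mpr ⟨hze, hzN⟩
    rwa [hco.gcd_eq_one, pow_one] at this
  refine Units.ext ?_
  rw [hu', hz1, one_smul]

theorem exists_lift (he : 0 < e) (hco : Nat.Coprime e N) (hf : ∀ M, (f ^ N) M = M) :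
    ∃ u, IsLift N f u := by
  obtain ⟨T, hT⟩ := exists_unit_conj f
  have hTn : ∀ (n : ℕ) M, (f ^ n) M = (T ^ n : (End ℂ (Fin e → ℂ))ˣ) * M * ↑(T ^ n)⁻¹ := by
    intro n
    induction n with
    | zero => intro M; simp
    | succ n ih =>
      intro M
      rw [pow_succ', AlgEquiv.mul_apply, ih, hT, pow_succ', mul_inv_rev]
      simp [mul_assoc]
  obtain ⟨c, hc⟩ := scalar_of_central he ((T ^ N : (End ℂ (Fin e → ℂ))ˣ) : End ℂ (Fin e → ℂ))
    fun M => by
      have h1 := hTn N M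
      rw [hf] at h1
      show _ * M = M * _
      conv_rhs => rw [h1]
      rw [Units.inv_mul_cancel_right]
  haveI : Nonempty (Fin e) := ⟨⟨0, he⟩⟩
  have hc0 : c ≠ 0 := by
    intro h0
    rw [h0, zero_smul] at hc
    exact (T ^ N).ne_zero hc
  have hd0 : LinearMap.det (T : End ℂ (Fin e → ℂ)) ≠ 0 :=
    (T.isUnit.map LinearMap.det).ne_zero
  let c' : ℂˣ := Units.mk0 c hc0
  let d' : ℂˣ := Units.mk0 _ hd0
  have hcd : c' ^ e = d' ^ N := by
    refine Units.ext ?_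
    have h1 := congrArg LinearMap.det hc
    rw [Units.val_pow_eq_pow_val, map_pow, det_smul_one] at h1
    simpa [c', d'] using h1.symm
  let x : ℤ := Nat.gcdB e N
  let y : ℤ := Nat.gcdA e N
  have hxy : (e : ℤ) * y + (N : ℤ) * x = 1 := by
    have := Nat.gcd_eq_gcd_ab e N
    rw [hco.gcd_eq_one] at this
    exact_mod_cast this.symm
  let z : ℂˣ := c' ^ (-x) * d' ^ (-y)
  have hzN : z ^ N = c'⁻¹ := by
    calc z ^ N = c' ^ (-(x * N)) * d' ^ (-(y * N)) := by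
          rw [← zpow_natCast, mul_zpow, ← zpow_mul, ← zpow_mul, neg_mul, neg_mul]
      _ = c' ^ (-(x * N)) * (d' ^ N) ^ (-y) := by
          rw [← zpow_natCast d' N, ← zpow_mul]
          congr 2; ring
      _ = c' ^ (-((e : ℤ) * y + (N : ℤ) * x)) := by
          rw [← hcd, ← zpow_natCast c' e, ← zpow_mul, ← zpow_add]
          congr 1; ring
      _ = c'⁻¹ := by rw [hxy, zpow_neg, zpow_one]
  have hze : z ^ e = d'⁻¹ := by
    calc z ^ e = c' ^ (-(x * e)) * d' ^ (-(y * e)) := by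
          rw [← zpow_natCast, mul_zpow, ← zpow_mul, ← zpow_mul, neg_mul, neg_mul]
      _ = (c' ^ e) ^ (-x) * d' ^ (-(y * e)) := by
          rw [← zpow_natCast c' e, ← zpow_mul]
          congr 2; ring
      _ = d' ^ (-((e : ℤ) * y + (N : ℤ) * x)) := by
          rw [hcd, ← zpow_natCast d' N, ← zpow_mul, ← zpow_add]
          congr 1; ring
      _ = d'⁻¹ := by rw [hxy, zpow_neg, zpow_one]
  let S : (End ℂ (Fin e → ℂ))ˣ := Units.map (algebraMap ℂ (End ℂ (Fin e → ℂ))).toMonoidHom z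
  have hS : (S : End ℂ (Fin e → ℂ)) = (z : ℂ) • 1 := Algebra.algebraMap_eq_smul_one (z : ℂ)
  have hS' : ((S⁻¹ : (End ℂ (Fin e → ℂ))ˣ) : End ℂ (Fin e → ℂ)) =
      ((z⁻¹ : ℂˣ) : ℂ) • 1 := Algebra.algebraMap_eq_smul_one ((z⁻¹ : ℂˣ) : ℂ)
  refine ⟨S * T, fun M => ?_, Units.ext ?_, ?_⟩
  · rw [hT, mul_inv_rev, Units.val_mul, Units.val_mul, hS, hS']
    simp only [smul_mul_assoc, mul_smul_comm, one_mul, mul_one, smul_smul]
    rw [← Units.val_mul, inv_mul_cancel, Units.val_one, one_smul]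
  · rw [Units.val_pow_eq_pow_val, Units.val_mul, hS, smul_one_mul, smul_pow,
      ← Units.val_pow_eq_pow_val T, hc, smul_smul, ← Units.val_pow_eq_pow_val, hzN,
      Units.val_inv_eq_inv_val, Units.val_mk0, inv_mul_cancel₀ hc0, one_smul, Units.val_one]
  · rw [Units.val_mul, hS, map_mul, det_smul_one, ← Units.val_pow_eq_pow_val, hze,
      Units.val_inv_eq_inv_val, Units.val_mk0, inv_mul_cancel₀ hd0]

/-- A weight idempotent, moved by each element of `H` to itself or to an orthogonal one. -/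
theorem exists_weight {G : Type u} [Group G] [Finite G] (he : 0 < e)
    (β : G →* (End ℂ (Fin e → ℂ) ≃ₐ[ℂ] End ℂ (Fin e → ℂ))) (A H : Subgroup G)
    (hAH : ∀ h ∈ H, ∀ a ∈ A, h * a * h⁻¹ ∈ A) (hpow : ∀ a ∈ A, β a ^ N = 1)
    (hcomm : ∀ a ∈ A, ∀ b ∈ A, Commute (β a) (β b)) (hco : Nat.Coprime e N)
    (hne : ∃ a ∈ A, β a ≠ 1) :
    ∃ E : End ℂ (Fin e → ℂ), E * E = E ∧ E ≠ 0 ∧ E ≠ 1 ∧
      ∀ h ∈ H, β h E = E ∨ E * β h E = 0 := by
  classical
  have hex : ∀ a : A, ∃ u, IsLift N (β a) u := fun a =>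
    exists_lift he hco fun M => by rw [hpow a a.2]; rfl
  choose t ht using hex
  have hcm : ∀ a b : A, t a * t b = t b * t a := by
    intro a b
    have h1 : IsLift N (β b) (t a * t b * (t a)⁻¹) := by
      refine ⟨fun M => ?_, ?_, ?_⟩
      · have h2 : β b M = β a (β b ((β a).symm M)) := by
          have h3 := AlgEquiv.congr_fun (hcomm a a.2 b b.2).eq ((β a).symm M)
          rw [AlgEquiv.mul_apply, AlgEquiv.mul_apply, AlgEquiv.apply_symm_apply] at h3
          exact h3.symm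
        have h4 : (β a).symm M = ↑(t a)⁻¹ * M * (t a : End ℂ (Fin e → ℂ)) := by
          rw [AlgEquiv.symm_apply_eq, (ht a).1]
          simp [mul_assoc]
        rw [h2, (ht a).1, (ht b).1, h4]
        simp [mul_assoc, mul_inv_rev]
      · rw [conj_pow, (ht b).2.1, mul_one, mul_inv_cancel]
      · rw [Units.val_mul, Units.val_mul, map_mul, map_mul, (ht a).2.2, (ht b).2.2, one_mul,
          one_mul]
        have h5 : LinearMap.det ((t a : End ℂ (Fin e → ℂ)) * ((t a)⁻¹ : (End ℂ (Fin e → ℂ))ˣ).val) = 1 := by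
          rw [← Units.val_mul, mul_inv_cancel, Units.val_one, map_one]
        rwa [map_mul, (ht a).2.2, one_mul] at h5
    exact mul_inv_eq_iff_eq_mul.mp (IsLift.unique he hco h1 (ht b))
  have hmul : ∀ a b : A, t (a * b) = t a * t b := by
    intro a b
    refine IsLift.unique he hco (ht (a * b)) ⟨fun M => ?_, ?_, ?_⟩
    · rw [Subgroup.coe_mul, map_mul, AlgEquiv.mul_apply, (ht b).1, (ht a).1, mul_inv_rev]
      simp [mul_assoc]
    · rw [Commute.mul_pow (hcm a b) N, (ht a).2.1, (ht b).2.1, one_mul]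
    · rw [Units.val_mul, map_mul, (ht a).2.2, (ht b).2.2, one_mul]
  let tHom : A →* (End ℂ (Fin e → ℂ))ˣ := MonoidHom.mk' t hmul
  have hconj : ∀ h ∈ H, ∀ (U : (End ℂ (Fin e → ℂ))ˣ), (∀ M, β h M = U * M * ↑U⁻¹) →
      ∀ γ ∈ tHom.range, U * γ * U⁻¹ ∈ tHom.range := by
    rintro h hh U hU _ ⟨a, rfl⟩
    refine ⟨⟨h * a * h⁻¹, hAH h hh a a.2⟩, IsLift.unique he hco (ht _) ⟨fun M => ?_, ?_, ?_⟩⟩
    · show β (h * a * h⁻¹) M = _
      have h4 : β h⁻¹ M = ↑U⁻¹ * M * (U : End ℂ (Fin e → ℂ)) := by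
        rw [map_inv, AlgEquiv.aut_inv, AlgEquiv.symm_apply_eq, hU]
        simp [mul_assoc]
      rw [map_mul, map_mul, AlgEquiv.mul_apply, AlgEquiv.mul_apply, h4, (ht a).1, hU]
      simp [tHom, mul_assoc, mul_inv_rev]
    · rw [conj_pow, show (tHom a) ^ N = 1 from (ht a).2.1, mul_one, mul_inv_cancel]
    · show LinearMap.det _ = 1
      rw [Units.val_mul, Units.val_mul, map_mul, map_mul, show LinearMap.det (tHom a : End ℂ (Fin e → ℂ)) = 1 from (ht a).2.2,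
        mul_one, ← map_mul, ← Units.val_mul, mul_inv_cancel, Units.val_one, map_one]
  let Γ := tHom.range
  haveI : Finite Γ := Finite.of_surjective tHom.rangeRestrict tHom.rangeRestrict_surjective
  letI : CommGroup Γ :=
    { (inferInstance : Group Γ) with
      mul_comm := by
        rintro ⟨_, a, rfl⟩ ⟨_, b, rfl⟩
        exact Subtype.ext (hcm a b) }
  haveI : Fintype Γ := Fintype.ofFinite Γ
  haveI : Finite (Γ →* ℂˣ) := Nat.finite_of_card_ne_zero (by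
    rw [card_monoidHom_units]; exact Subgroup.index_ne_zero_of_finite)
  haveI : Fintype (Γ →* ℂˣ) := Fintype.ofFinite _
  have hn : (Nat.card Γ : ℂ) ≠ 0 := Nat.cast_ne_zero.mpr Nat.card_pos.ne'
  let ι : Γ → End ℂ (Fin e → ℂ) := fun γ => ((γ.1 : (End ℂ (Fin e → ℂ))ˣ) : End ℂ (Fin e → ℂ))
  have hι : ∀ γ δ, ι (γ * δ) = ι γ * ι δ := fun _ _ => rfl
  let E : (Γ →* ℂˣ) → End ℂ (Fin e → ℂ) := fun l =>
    (Nat.card Γ : ℂ)⁻¹ • ∑ γ : Γ, ((l γ)⁻¹ : ℂˣ).1 • ι γ
  have hγE : ∀ l (δ : Γ), ι δ * E l = (l δ : ℂ) • E l := by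
    intro l δ
    simp only [E, mul_smul_comm, Finset.mul_sum, Finset.smul_sum, smul_smul]
    refine Fintype.sum_equiv (Equiv.mulLeft δ) _ _ fun γ => ?_
    rw [Equiv.coe_mulLeft, ← hι, map_mul, mul_inv_rev, Units.val_mul]
    congr 1
    rw [Units.val_inv_eq_inv_val (l δ)]
    field_simp
  have hEγ : ∀ l (δ : Γ), E l * ι δ = (l δ : ℂ) • E l := by
    intro l δ
    rw [← hγE]
    simp only [E, mul_smul_comm, smul_mul_assoc, Finset.mul_sum, Finset.sum_mul]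
    congr 1
    refine Finset.sum_congr rfl fun γ _ => ?_
    rw [← hι, ← hι, mul_comm γ δ]
  have hEE : ∀ l, E l * E l = E l := by
    intro l
    conv_lhs => arg 1; simp only [E]
    rw [smul_mul_assoc, Finset.sum_mul]
    simp only [smul_mul_assoc, hγE, smul_smul, ← Units.val_mul, inv_mul_cancel, Units.val_one,
      one_smul, Finset.sum_const, Finset.card_univ, ← Nat.card_eq_fintype_card]
    rw [← Nat.cast_smul_eq_nsmul ℂ, smul_smul, inv_mul_cancel₀ hn, one_smul]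
  have hsum : ∑ l, E l = 1 := by
    simp only [E, ← Finset.smul_sum]
    rw [Finset.sum_comm, Finset.sum_eq_single (1 : Γ)]
    · simp only [map_one, inv_one, Units.val_one, one_smul, Finset.sum_const, Finset.card_univ,
        ← Nat.card_eq_fintype_card]
      rw [card_monoidHom_units, ← Nat.cast_smul_eq_nsmul ℂ, smul_smul,
        show ι 1 = 1 from rfl]
      have hd : commutator Γ = ⊥ := by
        rw [commutator_eq_closure, Subgroup.closure_eq_bot_iff]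
        rintro _ ⟨a, b, rfl⟩
        rw [Set.mem_singleton_iff, commutatorElement_eq_one_iff_commute]
        exact mul_comm a b
      rw [hd, Subgroup.index_bot, inv_mul_cancel₀ hn, one_smul]
    · intro γ _ hγ
      rw [← Finset.sum_smul]
      obtain ⟨l₀, hl₀⟩ := CommGroup.exists_apply_ne_one_of_hasEnoughRootsOfUnity Γ ℂ hγ
      have h0 : ∑ l : Γ →* ℂˣ, (((l γ)⁻¹ : ℂˣ) : ℂ) = 0 := by
        set s := ∑ l : Γ →* ℂˣ, (((l γ)⁻¹ : ℂˣ) : ℂ) with hs
        have h1 : (((l₀ γ)⁻¹ : ℂˣ) : ℂ) * s = s := by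
          rw [hs, Finset.mul_sum]
          refine Fintype.sum_equiv (Equiv.mulLeft l₀) _ _ fun l => ?_
          rw [Equiv.coe_mulLeft, MonoidHom.mul_apply, mul_inv, Units.val_mul]
        have h2 : ((((l₀ γ)⁻¹ : ℂˣ) : ℂ) - 1) * s = 0 := by rw [sub_mul, h1, one_mul, sub_self]
        refine (mul_eq_zero.mp h2).resolve_left fun h3 => hl₀ ?_
        exact inv_eq_one.mp (Units.ext (sub_eq_zero.mp h3))
      rw [h0, zero_smul]
    · simp
  haveI : Nonempty (Fin e) := ⟨⟨0, he⟩⟩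
  obtain ⟨l, hl0, hl1⟩ : ∃ l, E l ≠ 0 ∧ E l ≠ 1 := by
    by_contra hh
    push Not at hh
    obtain ⟨l, hl⟩ : ∃ l, E l ≠ 0 := by
      by_contra h0
      push Not at h0
      rw [Finset.sum_eq_zero fun l _ => h0 l] at hsum
      exact zero_ne_one hsum
    obtain ⟨a, ha, hna⟩ := hne
    apply hna
    have h1 : ι ⟨tHom ⟨a, ha⟩, _, rfl⟩ = (l ⟨tHom ⟨a, ha⟩, _, rfl⟩ : ℂ) • 1 := by
      have := hγE l ⟨tHom ⟨a, ha⟩, _, rfl⟩
      rwa [hh l hl, mul_one] at this
    refine AlgEquiv.ext fun M => ?_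
    show β ((⟨a, ha⟩ : A) : G) M = M
    rw [(ht ⟨a, ha⟩).1]
    have h2 : (t ⟨a, ha⟩ : End ℂ (Fin e → ℂ)) * M = M * t ⟨a, ha⟩ := by
      rw [show (t ⟨a, ha⟩ : End ℂ (Fin e → ℂ)) = _ from h1, smul_one_mul, mul_smul_one]
    rw [h2, mul_assoc, Units.mul_inv, mul_one]
  refine ⟨E l, hEE l, hl0, hl1, fun h hh => ?_⟩
  obtain ⟨U, hU⟩ := exists_unit_conj (β h)
  let c : Γ → Γ := fun γ => ⟨U * γ.1 * U⁻¹, hconj h hh U hU γ.1 γ.2⟩
  have hcinj : Function.Injective c := fun γ δ hγ => Subtype.ext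
    (mul_left_cancel (mul_right_cancel (congrArg Subtype.val hγ)))
  have hE' : β h (E l) = (Nat.card Γ : ℂ)⁻¹ • ∑ γ : Γ, ((l γ)⁻¹ : ℂˣ).1 • ι (c γ) := by
    rw [hU]
    simp only [E, mul_smul_comm, smul_mul_assoc, Finset.mul_sum, Finset.sum_mul]
    rfl
  by_cases hl : ∀ γ, l (c γ) = l γ
  · left
    rw [hE']
    simp only [E]
    congr 1
    refine Fintype.sum_equiv (Equiv.ofBijective c ⟨hcinj, Finite.surjective_of_injective hcinj⟩)
      _ _ fun γ => ?_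
    show _ = ((l (c γ))⁻¹ : ℂˣ).1 • ι (c γ)
    rw [hl γ]
  · right
    push Not at hl
    obtain ⟨γ, hγ⟩ := hl
    have h1 : ι (c γ) * β h (E l) = (l γ : ℂ) • β h (E l) := by
      rw [show ι (c γ) = β h (ι γ) by rw [hU]; rfl, ← map_mul, hγE, map_smul]
    have h2 : (l (c γ) : ℂ) • (E l * β h (E l)) = (l γ : ℂ) • (E l * β h (E l)) := by
      rw [← smul_mul_assoc, ← hEγ, mul_assoc, h1, mul_smul_comm]
    by_contra h3
    exact hγ (Units.ext (smul_left_injective ℂ h3 h2))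

end Cfsg.Agent.Char.Berger
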