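import Cfsg.Agent.Lib.Char.Berger.Isotypic
import Cfsg.Agent.Lib.Char.Berger.Imprimitive
import Cfsg.Agent.Lib.Char.Berger.Chief
import Cfsg.Agent.Lib.Char.Berger.Weights
import Cfsg.Agent.Lib.Char.Clifford

/-!
# The step in Berger's theorem on quasiprimitive characters
-/

set_option autoImplicit false
set_option linter.style.haveILetI false

namespace Cfsg.Agent.Char.Berger

open Cfsg Module
open scoped ComplexConjugate

universe u

/-- Averages over a product of two subgroups. -/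
theorem card_inf_nsmul_sum {G : Type u} [Group G] [Fintype G] (K H L : Subgroup G) [Fintype K]
    [Fintype H] (hinf : H ⊓ K = L) (hdec : ∀ g : G, ∃ k ∈ K, ∃ h ∈ H, k * h = g)
    {M : Type*} [AddCommMonoid M] (S : G → M) (hS : ∀ g, ∀ h ∈ H, S (g * h) = S g) :
    Nat.card L • ∑ g, S g = Nat.card H • ∑ k : K, S k := by
  classical
  have hfib : ∀ g : G,
      (Finset.univ.filter fun p : K × H => (p.1 : G) * p.2 = g).card = Nat.card L := by
    intro g
    obtain ⟨k0, hk0, h0, hh0, rfl⟩ := hdec g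
    rw [← Fintype.card_subtype, ← Nat.card_eq_fintype_card]
    symm
    refine Nat.card_eq_of_bijective (fun l : L =>
      (⟨(⟨k0 * l, K.mul_mem hk0 (hinf.ge l.2).2⟩,
        ⟨(l : G)⁻¹ * h0, H.mul_mem (H.inv_mem (hinf.ge l.2).1) hh0⟩), by simp [mul_assoc]⟩ :
        {p : K × H // (p.1 : G) * p.2 = k0 * h0})) ⟨fun l l' e => ?_, ?_⟩
    · have := congrArg (fun q : {p : K × H // (p.1 : G) * p.2 = k0 * h0} => (q.1.1 : G)) e
      exact Subtype.ext (mul_left_cancel this)
    · rintro ⟨⟨k, h⟩, e⟩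
      change (k : G) * h = k0 * h0 at e
      have e1 : k0⁻¹ * (k : G) = h0 * (h : G)⁻¹ := by
        rw [inv_mul_eq_iff_eq_mul, ← mul_assoc, ← e, mul_inv_cancel_right]
      refine ⟨⟨k0⁻¹ * k, hinf ▸ ⟨e1 ▸ H.mul_mem hh0 (H.inv_mem h.2),
        K.mul_mem (K.inv_mem hk0) k.2⟩⟩, Subtype.ext (Prod.ext (Subtype.ext ?_) (Subtype.ext ?_))⟩
      · simp
      · show (k0⁻¹ * (k : G))⁻¹ * h0 = h
        rw [e1]; simp [mul_assoc]
  calc Nat.card L • ∑ g, S g
      = ∑ g, ∑ p ∈ Finset.univ.filter (fun p : K × H => (p.1 : G) * p.2 = g),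
          S ((p.1 : G) * p.2) := by
        rw [Finset.smul_sum]
        refine Finset.sum_congr rfl fun g _ => ?_
        rw [Finset.sum_congr rfl fun p hp => congrArg S (Finset.mem_filter.mp hp).2,
          Finset.sum_const, hfib]
    _ = ∑ p : K × H, S ((p.1 : G) * p.2) := Finset.sum_fiberwise _ _ _
    _ = Nat.card H • ∑ k : K, S k := by
        rw [Fintype.sum_prod_type, Finset.smul_sum]
        refine Finset.sum_congr rfl fun k _ => ?_
        rw [Finset.sum_congr rfl fun (h : H) _ => hS (k : G) h h.2, Finset.sum_const,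
          Finset.card_univ, Nat.card_eq_fintype_card]

set_option maxHeartbeats 1600000 in
/-- A quasiprimitive character induced from a maximal subgroup is induced from a proper subgroup
containing a larger normal subgroup. -/
theorem berger_step {G : Type u} [Group G] [Fintype G] (L H : Subgroup G) [L.Normal] (hLH : L ≤ H)
    (hmax : IsCoatom H) (hcore : ∀ N : Subgroup G, N.Normal → N ≤ H → N ≤ L)
    (hsolv : Group.IsSolvable (G ⧸ L)) {χ : G → ℂ} (hχ : IsIrrCharacter G χ)
    (hom : ∀ M : Subgroup G, M.Normal → L ≤ M → ∃ (φ : M → ℂ) (e : ℕ),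
      IsIrrCharacter M φ ∧ (fun m : M => χ m) = (e : ℂ) • φ)
    {ψ : H → ℂ} (hψ : IsCharacter H ψ) (hind : indFun H ψ = χ) :
    ∃ K J : Subgroup G, K.Normal ∧ L < K ∧ K ≤ J ∧ J ≠ ⊤ ∧
      ∃ ξ : J → ℂ, IsCharacter J ξ ∧ indFun J ξ = χ := by
  classical
  -- the chief factor
  have hLtop : L < ⊤ := hLH.trans_lt hmax.lt_top
  obtain ⟨K, hLK, -, hKn', hKcomm, hKmin, p, hp, hKp⟩ := exists_chief L hsolv ⊤ hLtop
  haveI hKn : K.Normal := ⟨fun k hk g => hKn' g trivial k hk⟩
  haveI := Fact.mk hp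
  haveI := Fintype.ofFinite K
  haveI := Fintype.ofFinite H
  have hKH : ¬ K ≤ H := fun h => hLK.not_ge (hcore K hKn h)
  have hsup : K ⊔ H = ⊤ := hmax.2 _ (lt_of_le_of_ne le_sup_right fun e => hKH (e ▸ le_sup_left))
  have hdec : ∀ g : G, ∃ k ∈ K, ∃ h ∈ H, k * h = g := fun g =>
    Subgroup.mem_sup_of_normal_left.mp (hsup ▸ Subgroup.mem_top g)
  have hinf : H ⊓ K = L := by
    refine le_antisymm (hcore _ ⟨fun x hx g => ?_⟩ inf_le_left) (le_inf hLH hLK.le)
    obtain ⟨k, hk, h, hh, rfl⟩ := hdec g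
    have h1 : h * x * h⁻¹ ∈ H ⊓ K := ⟨H.mul_mem (H.mul_mem hh hx.1) (H.inv_mem hh),
      hKn.conj_mem _ hx.2 h⟩
    refine ⟨?_, hKn.conj_mem _ hx.2 _⟩
    have h2 : (k * h) * x * (k * h)⁻¹ =
        (k * (h * x * h⁻¹) * k⁻¹ * (h * x * h⁻¹)⁻¹) * (h * x * h⁻¹) := by group
    rw [h2]
    exact H.mul_mem (hLH (hKcomm k hk _ h1.2)) h1.1
  -- the representation
  obtain ⟨dψ, σ, rfl⟩ := hψ
  obtain ⟨hfd, π, hπid, hπH, hπout, hπsum, hπχ⟩ := exists_ind_model H σ
  set ρ := indRep H σ with hρ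
  haveI := hfd
  have hρχ : ρ.character = χ := hπχ.trans hind
  haveI hρirr : ρ.IsIrreducible := (isIrreducible_iff_classInner ρ).mpr (by
    rw [hρχ]; exact IsIrrCharacter.classInner_self hχ)
  have hχcl : IsClassFunction G χ :=
    IsCharacter.isClassFunction (IsIrrCharacter.isCharacter hχ)
  have hρc : ∀ g, ρ g * ρ g⁻¹ = 1 := rho_mul_cancel ρ
  have hρc' : ∀ g, ρ g⁻¹ * ρ g = 1 := rho_mul_cancel' ρ
  -- the restriction to the chief factor
  haveI hLKn : (L.subgroupOf K).Normal := inferInstance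
  haveI := Fintype.ofFinite (L.subgroupOf K)
  let eL : (L.subgroupOf K) ≃* L := Subgroup.subgroupOfEquivOfLe hLK.le
  have hcardL : Nat.card (L.subgroupOf K) = Nat.card L := Nat.card_congr eL.toEquiv
  have hmemH : ∀ x : L.subgroupOf K, ((x : K) : G) ∈ H := fun x =>
    hLH (Subgroup.mem_subgroupOf.mp x.2)
  let ψ' : L.subgroupOf K → ℂ := fun x => σ.character ⟨((x : K) : G), hmemH x⟩
  have hψ' : IsCharacter (L.subgroupOf K) ψ' :=
    isCharacter_comp (isCharacter_character σ)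
      ({ toFun := fun x => ⟨((x : K) : G), hmemH x⟩, map_one' := rfl, map_mul' := fun _ _ => rfl } :
        L.subgroupOf K →* H)
  have hσcl : IsClassFunction H σ.character :=
    IsCharacter.isClassFunction (isCharacter_character σ)
  have hmack : (fun k : K => χ k) = indFun (L.subgroupOf K) ψ' := by
    funext k
    have hS : ∀ x, ∀ h ∈ H, extendByZero H σ.character ((x * h)⁻¹ * (k : G) * (x * h)) =
        extendByZero H σ.character (x⁻¹ * (k : G) * x) := by
      intro x h hh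
      have e1 : (x * h)⁻¹ * (k : G) * (x * h) = h⁻¹ * (x⁻¹ * (k : G) * x) * h := by group
      by_cases hm : x⁻¹ * (k : G) * x ∈ H
      · rw [extendByZero_of_mem _ _ hm, e1,
          extendByZero_of_mem _ _ (H.mul_mem (H.mul_mem (H.inv_mem hh) hm) hh)]
        rw [← hσcl ⟨_, hm⟩ ⟨h⁻¹, H.inv_mem hh⟩]
        congr 1
        exact Subtype.ext (by simp)
      · rw [extendByZero_of_notMem _ _ hm, e1, extendByZero_of_notMem]
        intro h2
        refine hm ?_
        have := H.mul_mem (H.mul_mem hh h2) (H.inv_mem hh)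
        simpa [mul_assoc] using this
    have hcount := card_inf_nsmul_sum K H L hinf hdec
      (fun x => extendByZero H σ.character (x⁻¹ * (k : G) * x)) hS
    rw [nsmul_eq_mul, nsmul_eq_mul] at hcount
    have hk : ∀ x : K, extendByZero H σ.character ((x : G)⁻¹ * (k : G) * x) =
        extendByZero (L.subgroupOf K) ψ' (x⁻¹ * k * x) := by
      intro x
      by_cases hm : x⁻¹ * k * x ∈ L.subgroupOf K
      · rw [extendByZero_of_mem _ _ hm]
        exact extendByZero_of_mem H _ (hmemH ⟨_, hm⟩)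
      · rw [extendByZero_of_notMem _ _ hm]
        refine extendByZero_of_notMem _ _ fun h2 => hm ?_
        exact Subgroup.mem_subgroupOf.mpr (hinf.le ⟨h2, (x⁻¹ * k * x).2⟩)
    rw [← hind, indFun_apply, indFun_apply, hcardL, ← Finset.sum_congr rfl fun x _ => hk x]
    have h1 : (Nat.card H : ℂ) ≠ 0 := Nat.cast_ne_zero.mpr Nat.card_pos.ne'
    have h2 : (Nat.card L : ℂ) ≠ 0 := Nat.cast_ne_zero.mpr Nat.card_pos.ne'
    field_simp
    linear_combination hcount
  obtain ⟨θ, f, hθ, hθe⟩ := hom K hKn hLK.le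
  obtain ⟨φ, m, hφ, hφe⟩ := hom L inferInstance le_rfl
  let φ' : L.subgroupOf K → ℂ := fun x => φ (eL x)
  have hφ' : IsIrrCharacter (L.subgroupOf K) φ' := isIrrCharacter_comp_mulEquiv eL hφ
  have hχφ : ∀ x : L.subgroupOf K, χ ((x : K) : G) = (m : ℂ) * φ' x := fun x =>
    congrFun hφe (eL x)
  have hχθ : ∀ k : K, χ k = (f : ℂ) * θ k := fun k => congrFun hθe k
  have hm0 : m ≠ 0 := by
    intro h0
    have := hχφ 1
    simp only [h0, Nat.cast_zero, zero_mul, OneMemClass.coe_one] at this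
    exact IsIrrCharacter.apply_one_ne_zero hχ this
  have hf0 : f ≠ 0 := by
    intro h0
    have := hχθ 1
    simp only [h0, Nat.cast_zero, zero_mul, OneMemClass.coe_one] at this
    exact IsIrrCharacter.apply_one_ne_zero hχ this
  obtain ⟨e, he⟩ := classInner_natCast_of_isCharacter
    (IsCharacter.restrict (IsIrrCharacter.isCharacter hθ) (L.subgroupOf K))
    (IsIrrCharacter.isCharacter hφ')
  obtain ⟨a, ha⟩ := classInner_natCast_of_isCharacter hψ' (IsIrrCharacter.isCharacter hφ')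
  have hfun : (f : ℂ) • (fun x : L.subgroupOf K => θ x) = (m : ℂ) • φ' := funext fun x => by
    simp only [Pi.smul_apply, smul_eq_mul, ← hχθ, hχφ]
  have hfe : (f : ℂ) * e = m := by
    have := congrArg (fun F => classInner F φ') hfun
    simp only [classInner_smul_left, he, IsIrrCharacter.classInner_self hφ', mul_one] at this
    exact this
  have hθφ : ∀ x : L.subgroupOf K, θ x = (e : ℂ) * φ' x := fun x => by
    have := congrFun hfun x
    simp only [Pi.smul_apply, smul_eq_mul, ← hfe, mul_assoc] at this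
    exact mul_left_cancel₀ (Nat.cast_ne_zero.mpr hf0) this
  have hφinv : ∀ k : K, conjChar (L.subgroupOf K) k φ' = φ' := by
    intro k
    funext x
    refine mul_left_cancel₀ (Nat.cast_ne_zero.mpr hm0 : (m : ℂ) ≠ 0) ?_
    simp only [conjChar]
    rw [← hχφ, ← hχφ]
    exact hχcl ((x : K) : G) (k : G)
  have hmidx : (m : ℂ) = ((L.subgroupOf K).index : ℂ) * a := by
    have h1 : (fun x : L.subgroupOf K => χ ((x : K) : G)) =
        (Nat.card (L.subgroupOf K) : ℂ)⁻¹ • ∑ g : K, conjChar (L.subgroupOf K) g ψ' := by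
      rw [← indFun_restrict]
      funext x
      exact congrFun hmack (x : K)
    have h2 := congrArg (fun F => classInner F φ') h1
    have h3 : classInner (fun x : L.subgroupOf K => χ ((x : K) : G)) φ' = m := by
      rw [show (fun x : L.subgroupOf K => χ ((x : K) : G)) = (m : ℂ) • φ' from funext hχφ,
        classInner_smul_left, IsIrrCharacter.classInner_self hφ', mul_one]
    simp only [h3, classInner_smul_left, classInner_sum_left] at h2
    rw [h2, Finset.sum_congr rfl fun g _ => show classInner (conjChar (L.subgroupOf K) g ψ') φ' = a by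
      conv_lhs => arg 2; rw [← hφinv g]
      rw [classInner_conjChar, ha],
      Finset.sum_const, Finset.card_univ, nsmul_eq_mul, ← Nat.card_eq_fintype_card,
      ← (L.subgroupOf K).index_mul_card, Nat.cast_mul]
    have : (Nat.card (L.subgroupOf K) : ℂ) ≠ 0 := Nat.cast_ne_zero.mpr Nat.card_pos.ne'
    field_simp
  have hff : (f : ℂ) * f = (m : ℂ) * a := by
    have h1 : classInner (fun k : K => χ k) (fun k : K => χ k) = (f : ℂ) * f := by
      rw [hθe, classInner_smul_left, classInner_smul_right, IsIrrCharacter.classInner_self hθ,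
        Complex.conj_natCast, mul_one]
    have h2 : classInner (indFun (L.subgroupOf K) ψ') (fun k : K => χ k) = (m : ℂ) * a := by
      rw [classInner_indFun (L.subgroupOf K) ψ' (fun x y => hχcl (x : G) (y : G)),
        show (fun x : L.subgroupOf K => χ ((x : K) : G)) = (m : ℂ) • φ' from funext hχφ,
        classInner_smul_right, ha, Complex.conj_natCast]
    rw [← h1, ← h2, ← hmack]
  have hidx : ((e * e : ℕ) : ℂ) = ((L.subgroupOf K).index : ℂ) := by
    have h3 : (f : ℂ) = (e : ℂ) * a := by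
      rw [← hfe, mul_assoc] at hff
      exact mul_left_cancel₀ (Nat.cast_ne_zero.mpr hf0) hff
    have ha0 : (a : ℂ) ≠ 0 := fun h0 => hm0 (by
      rw [h0, mul_zero] at hmidx; exact_mod_cast hmidx)
    rw [h3] at hfe
    refine mul_right_cancel₀ ha0 ?_
    rw [← hmidx, ← hfe]
    push_cast
    ring
  have hidx' : e * e = L.relIndex K := by exact_mod_cast hidx
  obtain ⟨n, hn⟩ := relIndex_eq_pow L K p hLK.le hKp
  have he2 : 2 ≤ e := by
    by_contra hlt
    have h1 : L.relIndex K ≠ 1 := fun h => hLK.not_ge (Subgroup.relIndex_eq_one.mp h)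
    have h2 : L.relIndex K ≠ 0 := Subgroup.index_ne_zero_of_finite
    interval_cases e <;> omega
  -- the two algebras
  obtain ⟨dθ, τ, hτ, rfl⟩ := hθ
  obtain ⟨dφ, φr, hφr, hφre⟩ := hφ'
  haveI := hτ
  haveI := hφr
  haveI := nontrivial_of_irreducible τ
  haveI := nontrivial_of_irreducible φr
  obtain ⟨jX, κX, hjτ, hjinj, -, hκXc, hκXall, hjκ, hjall⟩ :=
    exists_isotypic (ρ.comp K.subtype) τ f (funext fun k => by
      show ρ.character (k : G) = (f : ℂ) * τ.character k
      rw [hρχ, hχθ])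
  obtain ⟨-, κU, -, -, hκinj, hκUc, hκUall, -, -⟩ :=
    exists_isotypic (τ.comp (L.subgroupOf K).subtype) φr e (funext fun x => by
      show τ.character (x : K) = (e : ℂ) * φr.character x
      rw [hθφ, hφre])
  have hjinj' := hjinj (Nat.pos_of_ne_zero hf0)
  let BB := jX.comp κU
  have hBBinj : Function.Injective BB := hjinj'.comp hκinj
  let InC : End ℂ (indSpace H σ) → Prop := fun T => ∀ k : K, Commute T (ρ k)
  have hBBC : ∀ T, InC T → ∀ M, Commute T (BB M) := by
    intro T hT M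
    obtain ⟨M', rfl⟩ := hκXall T fun k => hT k
    exact (hjκ (κU M) M').symm
  have hBBL : ∀ l ∈ L, ∀ M, Commute (BB M) (ρ l) := by
    intro l hl M
    have h1 := hκUc M ⟨⟨l, hLK.le hl⟩, Subgroup.mem_subgroupOf.mpr hl⟩
    have h2 := h1.map jX
    rw [show jX ((τ.comp (L.subgroupOf K).subtype) ⟨⟨l, hLK.le hl⟩, Subgroup.mem_subgroupOf.mpr hl⟩)
      = ρ l from hjτ ⟨l, hLK.le hl⟩] at h2
    exact h2
  have hrange : ∀ S, (∀ T, InC T → Commute T S) → (∀ l ∈ L, Commute S (ρ l)) →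
      ∃ M, BB M = S := by
    intro S hSC hSL
    obtain ⟨b, rfl⟩ := hjall S fun M => (hSC _ fun k => hκXc M k).symm
    obtain ⟨M, rfl⟩ := hκUall b fun x => hjinj' (by
      rw [map_mul, map_mul]
      rw [show jX ((τ.comp (L.subgroupOf K).subtype) x) = ρ ((x : K) : G) from hjτ (x : K)]
      exact (hSL _ (Subgroup.mem_subgroupOf.mp x.2)).eq)
    exact ⟨M, rfl⟩
  have hInCconj : ∀ g T, InC T → InC (ρ g * T * ρ g⁻¹) := by
    intro g T hT k
    have h1 := hT ⟨g⁻¹ * k * g, by simpa using hKn.conj_mem (k : G) k.2 g⁻¹⟩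
    show ρ g * T * ρ g⁻¹ * ρ k = ρ k * (ρ g * T * ρ g⁻¹)
    calc ρ g * T * ρ g⁻¹ * ρ k = ρ g * (T * ρ (g⁻¹ * k * g)) * ρ g⁻¹ := by
          simp only [mul_assoc, ← map_mul, mul_inv_cancel, mul_one]
      _ = ρ g * (ρ (g⁻¹ * k * g) * T) * ρ g⁻¹ := by rw [h1.eq]
      _ = ρ k * (ρ g * T * ρ g⁻¹) := by
          simp only [← mul_assoc, ← map_mul, mul_inv_cancel, one_mul]
  have hbm : ∀ g M, ∃ M', BB M' = ρ g * BB M * ρ g⁻¹ := by
    intro g M
    refine hrange _ (fun T hT => ?_) fun l hl => ?_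
    · have h1 := hBBC _ (hInCconj g⁻¹ T hT) M
      rw [inv_inv] at h1
      calc T * (ρ g * BB M * ρ g⁻¹) = ρ g * (ρ g⁻¹ * T * ρ g * BB M) * ρ g⁻¹ := by
            simp only [← mul_assoc, hρc, one_mul]
        _ = ρ g * (BB M * (ρ g⁻¹ * T * ρ g)) * ρ g⁻¹ := by rw [h1.eq]
        _ = ρ g * BB M * ρ g⁻¹ * T := by simp only [mul_assoc, hρc, mul_one]
    · have h1 := hBBL (g⁻¹ * l * g) (by simpa using (inferInstance : L.Normal).conj_mem l hl g⁻¹) M
      show ρ g * BB M * ρ g⁻¹ * ρ l = ρ l * (ρ g * BB M * ρ g⁻¹)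
      calc ρ g * BB M * ρ g⁻¹ * ρ l = ρ g * (BB M * ρ (g⁻¹ * l * g)) * ρ g⁻¹ := by
            simp only [mul_assoc, ← map_mul, mul_inv_cancel, mul_one]
        _ = ρ g * (ρ (g⁻¹ * l * g) * BB M) * ρ g⁻¹ := by rw [h1.eq]
        _ = ρ l * (ρ g * BB M * ρ g⁻¹) := by
            simp only [← mul_assoc, ← map_mul, mul_inv_cancel, one_mul]
  choose bm hbm using hbm
  let β0 : G → (End ℂ (Fin e → ℂ) ≃ₐ[ℂ] End ℂ (Fin e → ℂ)) := fun g =>
    { toFun := bm g
      invFun := bm g⁻¹
      left_inv := fun M => hBBinj (by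
        rw [hbm, hbm, inv_inv]
        simp only [mul_assoc, hρc', mul_one]
        simp only [← mul_assoc, hρc', one_mul])
      right_inv := fun M => hBBinj (by
        rw [hbm, hbm, inv_inv]
        simp only [mul_assoc, hρc, mul_one]
        simp only [← mul_assoc, hρc, one_mul])
      map_mul' := fun M M' => hBBinj (by
        rw [hbm, map_mul, map_mul, hbm, hbm]
        simp only [mul_assoc]
        rw [← mul_assoc (ρ g⁻¹) (ρ g), hρc', one_mul])
      map_add' := fun M M' => hBBinj (by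
        rw [hbm, map_add, map_add, hbm, hbm, mul_add, add_mul])
      commutes' := fun c => hBBinj (by
        rw [hbm, AlgHom.commutes, Algebra.algebraMap_eq_smul_one, mul_smul_comm, smul_mul_assoc,
          mul_one, hρc]) }
  have hβ0 : ∀ g M, BB (β0 g M) = ρ g * BB M * ρ g⁻¹ := hbm
  let β : G →* (End ℂ (Fin e → ℂ) ≃ₐ[ℂ] End ℂ (Fin e → ℂ)) := MonoidHom.mk' β0 fun g g' =>
    AlgEquiv.ext fun M => hBBinj (by
      rw [AlgEquiv.mul_apply, hβ0, hβ0, hβ0, mul_inv_rev, map_mul, map_mul]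
      simp only [mul_assoc])
  have hβ : ∀ g M, BB (β g M) = ρ g * BB M * ρ g⁻¹ := hbm
  have hker : ∀ g, β g = 1 ↔ ∀ M, Commute (ρ g) (BB M) := by
    intro g
    constructor
    · intro h M
      have h1 := hβ g M
      rw [h, AlgEquiv.one_apply] at h1
      show ρ g * BB M = BB M * ρ g
      conv_rhs => rw [h1]
      simp only [mul_assoc, hρc', mul_one]
    · intro h
      refine AlgEquiv.ext fun M => hBBinj ?_
      rw [hβ, (h M).eq, mul_assoc, hρc, mul_one, AlgEquiv.one_apply]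
  have hβL : ∀ l ∈ L, β l = 1 := fun l hl => (hker l).mpr fun M => (hBBL l hl M).symm
  have hnotK : ¬ ∀ k ∈ K, β k = 1 := by
    intro hall
    let o : Fin e := ⟨0, by omega⟩
    let o' : Fin e := ⟨1, by omega⟩
    let P : End ℂ (Fin e → ℂ) := (LinearMap.proj o).smulRight (Pi.single o 1)
    obtain ⟨c, hc⟩ := scalar_of_commute τ (κU P) fun k => hjinj' (by
      rw [map_mul, map_mul, hjτ]
      exact ((hker k).mp (hall k k.2) P).eq.symm)
    have hP : P = c • (1 : End ℂ (Fin e → ℂ)) := hκinj (by rw [hc, map_smul, map_one])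
    have h1 := congrFun (LinearMap.congr_fun hP (Pi.single o 1)) o
    have h2 := congrFun (LinearMap.congr_fun hP (Pi.single o' 1)) o'
    have hoo : o' ≠ o := fun h => by simp [o, o'] at h
    simp [P, hoo, hoo.symm] at h1 h2
    exact one_ne_zero (h1.trans h2.symm)
  have hNK : ∀ k ∈ K, β k = 1 → k ∈ L := by
    intro k hk hk1
    rcases hKmin (β.ker ⊓ K) (le_inf (fun l hl => hβL l hl) hLK.le) inf_le_right
      (fun g _ x hx => ⟨(inferInstance : β.ker.Normal).conj_mem x hx.1 g, hKn.conj_mem x hx.2 g⟩)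
      with h | h
    · exact h.le ⟨hk1, hk⟩
    · exact absurd (fun k hk => (h.ge hk).1) hnotK
  -- the chief factor inside the maximal subgroup
  have hHL : L < H := by
    refine lt_of_le_of_ne hLH fun hLH' => ?_
    obtain ⟨k, hk, hkL⟩ := SetLike.exists_of_lt hLK
    obtain ⟨U, hU⟩ := exists_unit_conj (β k)
    have hfix : β k (U : End ℂ (Fin e → ℂ)) = U := by rw [hU]; simp
    let C : Subgroup G :=
      { carrier := {g | Commute (ρ g) (BB U)}
        one_mem' := by show Commute (ρ 1) _; rw [map_one]; exact Commute.one_left _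
        mul_mem' := fun {a b} ha hb => by show Commute (ρ (a * b)) _; rw [map_mul]; exact ha.mul_left hb
        inv_mem' := fun {a} ha => by
          show ρ a⁻¹ * BB U = BB U * ρ a⁻¹
          calc ρ a⁻¹ * BB U = ρ a⁻¹ * (BB U * ρ a) * ρ a⁻¹ := by simp only [mul_assoc, hρc, mul_one]
            _ = ρ a⁻¹ * (ρ a * BB U) * ρ a⁻¹ := by rw [ha.eq]
            _ = BB U * ρ a⁻¹ := by simp only [← mul_assoc, hρc', one_mul] }
    have hkC : k ∈ C := by
      show ρ k * BB U = BB U * ρ k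
      conv_rhs => rw [← hfix, hβ]
      simp only [mul_assoc, hρc', mul_one]
    have hCtop : C = ⊤ := hmax.2 C (lt_of_le_of_ne
      (fun g hg => (hBBL g (hLH'.ge hg) _).symm) fun e => hkL (hLH'.ge (e ▸ hkC)))
    obtain ⟨c, hc⟩ := scalar_of_commute ρ (BB U) fun g =>
      (show g ∈ C from hCtop ▸ Subgroup.mem_top g).symm
    have hUc : (U : End ℂ (Fin e → ℂ)) = c • 1 := hBBinj (by rw [hc, map_smul, map_one])
    refine hkL (hNK k hk (AlgEquiv.ext fun M => ?_))
    rw [hU, AlgEquiv.one_apply]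
    have h2 : (U : End ℂ (Fin e → ℂ)) * M = M * U := by rw [hUc, smul_one_mul, mul_smul_one]
    rw [h2, mul_assoc, Units.mul_inv, mul_one]
  obtain ⟨A, hLA, hAH, hAn, hAcomm, -, q, hq, hAq⟩ := exists_chief L hsolv H hHL
  have hnotA : ¬ ∀ a ∈ A, ∀ k ∈ K, a * k * a⁻¹ * k⁻¹ ∈ L := by
    intro hall
    have hAN : A.Normal := ⟨fun x hx g => by
      obtain ⟨k, hk, h, hh, rfl⟩ := hdec g
      have h1 := hAn h hh x hx
      have h2 : (k * h) * x * (k * h)⁻¹ =
          ((h * x * h⁻¹) * k * (h * x * h⁻¹)⁻¹ * k⁻¹)⁻¹ * (h * x * h⁻¹) := by group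
      rw [h2]
      exact A.mul_mem (A.inv_mem (hLA.le (hall _ h1 k hk))) h1⟩
    exact hLA.not_ge (hcore A hAN hAH)
  have hpq : q ≠ p := by
    intro hqp
    subst hqp
    let mk := QuotientGroup.mk' L
    let Ab := A.map mk
    let Kb := K.map mk
    haveI hKb : Kb.Normal := hKn.map _ (QuotientGroup.mk'_surjective L)
    letI : MulAction Ab Kb :=
      { smul := fun a k => ⟨(a : G ⧸ L) * k * (a : G ⧸ L)⁻¹, hKb.conj_mem _ k.2 _⟩
        one_smul := fun k => Subtype.ext (by show (1 : G ⧸ L) * k * 1⁻¹ = k; simp)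
        mul_smul := fun a b k => Subtype.ext (by
          show ((a : G ⧸ L) * b) * k * ((a : G ⧸ L) * b)⁻¹ =
            (a : G ⧸ L) * ((b : G ⧸ L) * k * (b : G ⧸ L)⁻¹) * (a : G ⧸ L)⁻¹
          simp [mul_assoc]) }
    have hpgrp : ∀ B : Subgroup G, (∀ b ∈ B, ∃ m : ℕ, b ^ q ^ m ∈ L) →
        IsPGroup q (B.map mk) := by
      rintro B hB ⟨_, b, hb, rfl⟩
      obtain ⟨m, hm⟩ := hB b hb
      exact ⟨m, Subtype.ext (by
        show mk b ^ q ^ m = 1
        rw [← map_pow]; exact (QuotientGroup.eq_one_iff _).mpr hm)⟩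
    have hKbne : Kb ≠ ⊥ := fun h => hLK.not_ge fun x hx => (QuotientGroup.eq_one_iff x).mp
      (Subgroup.mem_bot.mp (h ▸ (⟨x, hx, rfl⟩ : mk x ∈ Kb)))
    have hdvd : q ∣ Nat.card Kb := by
      obtain ⟨n', hn'⟩ := IsPGroup.iff_card.mp (hpgrp K hKp)
      haveI : Nontrivial Kb := (Subgroup.nontrivial_iff_ne_bot _).mpr hKbne
      have : n' ≠ 0 := fun h => by
        rw [h, pow_zero] at hn'
        exact (Finite.one_lt_card (α := Kb)).ne' hn'
      rw [hn']; exact dvd_pow_self q this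
    obtain ⟨⟨_, w, hw, rfl⟩, hwfix, hwne⟩ :=
      (hpgrp A hAq).exists_fixed_point_of_prime_dvd_card_of_fixed_point Kb hdvd
        (a := 1) (fun a => Subtype.ext (by show (a : G ⧸ L) * 1 * (a : G ⧸ L)⁻¹ = 1; simp))
    let W : Subgroup G := K ⊓ (Subgroup.centralizer (Ab : Set (G ⧸ L))).comap mk
    have hwW : w ∈ W := ⟨hw, fun b hb => mul_inv_eq_iff_eq_mul.mp
      (congrArg Subtype.val (hwfix ⟨b, hb⟩))⟩
    have hWn : ∀ g ∈ (⊤ : Subgroup G), ∀ x ∈ W, g * x * g⁻¹ ∈ W := fun g _ x hx =>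
      ⟨hKn.conj_mem x hx.1 g, fun b hb => by
        obtain ⟨k, hk, h, hh, rfl⟩ := hdec g
        obtain ⟨a, ha, rfl⟩ := hb
        have ha' : h⁻¹ * a * h ∈ A := by simpa using hAn h⁻¹ (H.inv_mem hh) a ha
        have h1 : mk (h⁻¹ * a * h) * mk x = mk x * mk (h⁻¹ * a * h) := hx.2 _ ⟨_, ha', rfl⟩
        have hy : h * x * h⁻¹ ∈ K := hKn.conj_mem x hx.1 h
        have h2 : mk ((k * h) * x * (k * h)⁻¹) = mk (h * x * h⁻¹) := by
          rw [← div_eq_one, div_eq_mul_inv, ← map_inv, ← map_mul]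
          refine (QuotientGroup.eq_one_iff _).mpr ?_
          have := hKcomm k hk _ hy
          convert this using 1
          group
        rw [h2]
        simp only [map_mul, map_inv] at h1 ⊢
        calc mk a * (mk h * mk x * (mk h)⁻¹)
            = mk h * ((mk h)⁻¹ * mk a * mk h * mk x) * (mk h)⁻¹ := by group
          _ = mk h * (mk x * ((mk h)⁻¹ * mk a * mk h)) * (mk h)⁻¹ := by rw [h1]
          _ = mk h * mk x * (mk h)⁻¹ * mk a := by group⟩
    rcases hKmin W (fun l hl => ⟨hLK.le hl, fun b _ => by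
        rw [show mk l = 1 from (QuotientGroup.eq_one_iff _).mpr hl, mul_one, one_mul]⟩)
      inf_le_left hWn with h | h
    · exact hwne (Subtype.ext ((QuotientGroup.eq_one_iff w).mpr (h.le hwW)).symm)
    · refine hnotA fun a ha k hk => (QuotientGroup.eq_one_iff _).mp ?_
      show mk (a * k * a⁻¹ * k⁻¹) = 1
      simp only [map_mul, map_inv]
      have h1 : mk a * mk k = mk k * mk a := (h.ge hk).2 (mk a) ⟨a, ha, rfl⟩
      rw [h1]; group
  haveI := Fact.mk hq
  obtain ⟨n', hn'⟩ := relIndex_eq_pow L A q hLA.le hAq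
  have hAne : ∃ a ∈ A, β a ≠ 1 := by
    by_contra hh
    push Not at hh
    refine hnotA fun a ha k hk => hNK _ ?_ ?_
    · exact K.mul_mem (hKn.conj_mem k hk a) (K.inv_mem hk)
    · simp only [map_mul, map_inv, hh a ha, one_mul, inv_one, mul_one, mul_inv_cancel]
  have hco : Nat.Coprime e (q ^ n') := by
    have h1 : Nat.Coprime (e * e) (q ^ n') := by
      rw [hidx', hn]
      exact ((Nat.coprime_primes hp hq).mpr (Ne.symm hpq)).pow n n'
    exact Nat.Coprime.coprime_mul_right h1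
  obtain ⟨E, hEid, hE0, hE1, hEH⟩ := exists_weight (by omega) β A H hAn
    (fun a ha => by
      rw [← map_pow]
      refine hβL _ ?_
      haveI : (L.subgroupOf A).Normal := inferInstance
      have := Subgroup.pow_index_mem (L.subgroupOf A) ⟨a, ha⟩
      rw [show (L.subgroupOf A).index = q ^ n' from hn'] at this
      exact this)
    (fun a ha b hb => by
      have h1 := hβL _ (hAcomm a ha b hb)
      simp only [map_mul, map_inv] at h1
      exact commutatorElement_eq_one_iff_commute.mp h1) hco hAne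
  -- transfer to the centralizer of the kernel
  let Φ : End ℂ (Fin e → ℂ) → End ℂ (indSpace H σ) := fun M =>
    (Nat.card L : ℂ)⁻¹ • ∑ k : K, ρ (k : G) * (BB M * π) * ρ (k : G)⁻¹
  have hLne : (Nat.card L : ℂ) ≠ 0 := Nat.cast_ne_zero.mpr Nat.card_pos.ne'
  have hπK : ∑ k : K, ρ (k : G) * π * ρ (k : G)⁻¹ = (Nat.card L : ℂ) • 1 := by
    have h1 := card_inf_nsmul_sum K H L hinf hdec (fun g => ρ g * π * ρ g⁻¹) fun g h hh => by
      rw [mul_inv_rev, map_mul, map_mul]
      calc ρ g * ρ h * π * (ρ h⁻¹ * ρ g⁻¹) = ρ g * (ρ h * π) * ρ h⁻¹ * ρ g⁻¹ := by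
            simp only [mul_assoc]
        _ = ρ g * π * ρ g⁻¹ := by
            rw [(hπH h hh).eq]; simp only [mul_assoc]; rw [← mul_assoc (ρ h), hρc, one_mul]
    rw [hπsum, ← Nat.cast_smul_eq_nsmul ℂ, ← Nat.cast_smul_eq_nsmul ℂ (Nat.card H), smul_smul,
      mul_comm, ← smul_smul] at h1
    exact (smul_right_injective _ (Nat.cast_ne_zero.mpr Nat.card_pos.ne' : (Nat.card H : ℂ) ≠ 0)
      h1).symm
  have hΦC : ∀ M, InC (Φ M) := by
    intro M k₀
    show Φ M * ρ k₀ = ρ k₀ * Φ M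
    simp only [Φ, smul_mul_assoc, mul_smul_comm, Finset.sum_mul, Finset.mul_sum]
    congr 1
    refine Fintype.sum_equiv (Equiv.mulLeft k₀⁻¹) _ _ fun k => ?_
    simp only [Equiv.coe_mulLeft, Subgroup.coe_mul, InvMemClass.coe_inv, mul_inv_rev, inv_inv,
      map_mul]
    simp only [← mul_assoc, hρc, one_mul]
  have hΦπ : ∀ M, Φ M * π = BB M * π := by
    intro M
    have hterm : ∀ k : K, ρ (k : G) * (BB M * π) * ρ (k : G)⁻¹ * π =
        if (k : G) ∈ L then BB M * π else 0 := by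
      intro k
      split_ifs with hk
      · calc ρ (k : G) * (BB M * π) * ρ (k : G)⁻¹ * π
            = BB M * (ρ (k : G) * π) * ρ (k : G)⁻¹ * π := by
              simp only [← mul_assoc]; rw [(hBBL _ hk M).eq]
          _ = BB M * (π * (ρ (k : G) * ρ (k : G)⁻¹) * π) := by
              rw [(hπH _ (hLH hk)).eq]; simp only [mul_assoc]
          _ = BB M * π := by rw [hρc, mul_one, hπid]
      · have h1 := hπout (k : G) fun h => hk (hinf.le ⟨h, k.2⟩)
        calc ρ (k : G) * (BB M * π) * ρ (k : G)⁻¹ * π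
            = ρ (k : G) * BB M * ρ (k : G)⁻¹ * (ρ (k : G) * π * ρ (k : G)⁻¹ * π) := by
              simp only [mul_assoc]; rw [← mul_assoc (ρ (k : G)⁻¹), hρc', one_mul]
          _ = 0 := by rw [h1, mul_zero]
    simp only [Φ, smul_mul_assoc, Finset.sum_mul]
    rw [Finset.sum_congr rfl fun k _ => hterm k, ← Finset.sum_filter, Finset.sum_const,
      ← Fintype.card_subtype, ← Nat.card_eq_fintype_card, ← Nat.cast_smul_eq_nsmul ℂ, smul_smul]
    rw [show Nat.card {k : K // (k : G) ∈ L} = Nat.card L from hcardL,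
      inv_mul_cancel₀ hLne, one_smul]
  have hext : ∀ c c', InC c → InC c' → c * π = c' * π → c = c' := by
    intro c c' hc hc' h
    have key : ∀ d, InC d →
        (Nat.card L : ℂ) • d = ∑ k : K, ρ (k : G) * (d * π) * ρ (k : G)⁻¹ := by
      intro d hd
      calc (Nat.card L : ℂ) • d = d * ∑ k : K, ρ (k : G) * π * ρ (k : G)⁻¹ := by
            rw [hπK, mul_smul_comm, mul_one]
        _ = _ := by
            rw [Finset.mul_sum]
            refine Finset.sum_congr rfl fun k _ => ?_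
            simp only [← mul_assoc]
            rw [(hd k).eq]
    exact smul_right_injective _ hLne (by simp only [key c hc, key c' hc', h])
  have hΦmul : ∀ M M', Φ M * Φ M' = Φ (M' * M) := fun M M' => by
    refine hext _ _ (fun k => (hΦC M k).mul_left (hΦC M' k)) (hΦC _) ?_
    rw [mul_assoc, hΦπ, ← mul_assoc, (hBBC _ (hΦC M) M').eq, mul_assoc, hΦπ, hΦπ, map_mul,
      mul_assoc]
  have hΦ1 : Φ 1 = 1 := hext _ _ (hΦC 1) (fun k => Commute.one_left _) (by rw [hΦπ, map_one])
  have hΦ0 : Φ 0 = 0 := by simp [Φ]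
  have hΦadd : ∀ M M', Φ (M + M') = Φ M + Φ M' := fun M M' => by
    simp [Φ, add_mul, mul_add, Finset.sum_add_distrib]
  have hΦinj : ∀ M, Φ M = 0 → M = 0 := by
    intro M hM
    by_contra hne
    obtain ⟨y, hy⟩ : ∃ y, M y ≠ 0 := by
      by_contra hh; push Not at hh; exact hne (LinearMap.ext hh)
    obtain ⟨r, hr⟩ : ∃ r, M y r ≠ 0 := by
      by_contra hh; push Not at hh; exact hy (funext hh)
    let B : Fin e → End ℂ (Fin e → ℂ) := fun i => (LinearMap.proj i).smulRight y
    let A' : Fin e → End ℂ (Fin e → ℂ) := fun i =>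
      (LinearMap.proj r).smulRight ((M y r)⁻¹ • (Pi.single i 1 : Fin e → ℂ))
    have hone : (1 : End ℂ (Fin e → ℂ)) = ∑ i, A' i * M * B i := LinearMap.ext fun z => funext fun l => by
      simp [A', B, Pi.single_apply, Finset.sum_apply, hr]
    have hsum0 : ∀ s : Finset (Fin e), Φ (∑ i ∈ s, A' i * M * B i) = 0 := by
      intro s
      induction s using Finset.induction with
      | empty => simpa using hΦ0
      | insert i s hi ih =>
        rw [Finset.sum_insert hi, hΦadd, ih, add_zero, ← hΦmul, ← hΦmul, hM, zero_mul, mul_zero]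
    have h10 := hsum0 Finset.univ
    rw [← hone, hΦ1] at h10
    haveI : Nontrivial (indSpace H σ) := nontrivial_of_irreducible ρ
    exact one_ne_zero h10
  have hΦH : ∀ h ∈ H, ∀ M, ρ h * Φ M * ρ h⁻¹ = Φ (β h M) := fun h hh M => by
    refine hext _ _ (hInCconj h _ (hΦC M)) (hΦC _) ?_
    rw [hΦπ, hβ]
    calc ρ h * Φ M * ρ h⁻¹ * π = ρ h * (Φ M * π) * ρ h⁻¹ := by
          simp only [mul_assoc]; rw [(hπH h⁻¹ (H.inv_mem hh)).eq]
      _ = ρ h * BB M * ρ h⁻¹ * π := by
          rw [hΦπ]; simp only [mul_assoc]; rw [(hπH h⁻¹ (H.inv_mem hh)).eq]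
  -- the imprimitivity idempotent
  let ε := Φ E
  have hεid : ε * ε = ε := by
    show Φ E * Φ E = Φ E
    rw [hΦmul, hEid]
  let J : Subgroup G :=
    { carrier := {g | Commute (ρ g) ε}
      one_mem' := by show Commute (ρ 1) ε; rw [map_one]; exact Commute.one_left _
      mul_mem' := fun {a b} ha hb => by show Commute (ρ (a * b)) ε; rw [map_mul]; exact ha.mul_left hb
      inv_mem' := fun {a} ha => by
        show ρ a⁻¹ * ε = ε * ρ a⁻¹
        calc ρ a⁻¹ * ε = ρ a⁻¹ * (ε * ρ a) * ρ a⁻¹ := by simp only [mul_assoc, hρc, mul_one]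
          _ = ρ a⁻¹ * (ρ a * ε) * ρ a⁻¹ := by rw [ha.eq]
          _ = ε * ρ a⁻¹ := by simp only [← mul_assoc, hρc', one_mul] }
  have hKJ : K ≤ J := fun k hk => (hΦC E ⟨k, hk⟩).symm
  have hout : ∀ g ∉ J, ρ g * ε * ρ g⁻¹ * ε = 0 := by
    intro g hg
    obtain ⟨k, hk, h, hh, rfl⟩ := hdec g
    have h1 : ρ (k * h) * ε * ρ (k * h)⁻¹ = Φ (β h E) := by
      rw [mul_inv_rev, map_mul, map_mul]
      calc ρ k * ρ h * Φ E * (ρ h⁻¹ * ρ k⁻¹) = ρ k * (ρ h * Φ E * ρ h⁻¹) * ρ k⁻¹ := by
            simp only [mul_assoc]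
        _ = Φ (β h E) * (ρ k * ρ k⁻¹) := by
            rw [hΦH h hh, ← ((hΦC _ ⟨k, hk⟩) : Commute _ (ρ k)).eq, mul_assoc]
        _ = Φ (β h E) := by rw [hρc, mul_one]
    rw [h1]
    rcases hEH h hh with h2 | h2
    · refine absurd ?_ hg
      show ρ (k * h) * ε = ε * ρ (k * h)
      rw [h2] at h1
      conv_rhs => rw [show ε = Φ E from rfl, ← h1]
      simp only [mul_assoc, hρc', mul_one]
    · show Φ _ * Φ E = 0
      rw [hΦmul, h2, hΦ0]
  have hεne : ε ≠ 0 := fun h => hE0 (hΦinj E h)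
  obtain ⟨v, hv⟩ : ∃ v, ε v ≠ 0 := by
    by_contra hh; push Not at hh; exact hεne (LinearMap.ext hh)
  have hJsum : ∑ g, ρ g * ε * ρ g⁻¹ = (Nat.card J : ℂ) • (1 : End ℂ (indSpace H σ)) := by
    obtain ⟨c, hc⟩ := scalar_of_commute ρ (∑ g, ρ g * ε * ρ g⁻¹) fun g₀ => by
      show _ * ρ g₀ = ρ g₀ * _
      rw [Finset.sum_mul, Finset.mul_sum]
      refine Fintype.sum_equiv (Equiv.mulLeft g₀⁻¹) _ _ fun g => ?_
      simp only [Equiv.coe_mulLeft, mul_inv_rev, inv_inv, map_mul]
      simp only [← mul_assoc, hρc, one_mul]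
    have h1 := congrArg (· * ε) hc
    simp only [Finset.sum_mul, smul_one_mul] at h1
    rw [Finset.sum_congr rfl fun g _ => show ρ g * ε * ρ g⁻¹ * ε = if g ∈ J then ε else 0 by
      split_ifs with hg
      · rw [(hg : Commute (ρ g) ε).eq, mul_assoc ε, hρc, mul_one, hεid]
      · exact hout g hg,
      ← Finset.sum_filter, Finset.sum_const, ← Fintype.card_subtype,
      ← Nat.card_eq_fintype_card, ← Nat.cast_smul_eq_nsmul ℂ] at h1
    have hcJ : (Nat.card J : ℂ) = c :=
      smul_left_injective ℂ hv (LinearMap.congr_fun h1 v)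
    rw [hc, hcJ]
  obtain ⟨ξ, hξ, hξi⟩ := exists_indFun_of_idem ρ J ε hεid (fun j hj => hj) hout hJsum
  refine ⟨K, J, hKn, hLK, hKJ, fun htop => ?_, ξ, hξ, hξi.trans hρχ⟩
  obtain ⟨c, hc⟩ := scalar_of_commute ρ ε fun g => ((htop ▸ Subgroup.mem_top g : g ∈ J) : Commute _ _).symm
  have hcc : c = 1 := by
    have h1 := LinearMap.congr_fun hεid v
    rw [hc] at h1 hv
    simp only [Module.End.mul_apply, LinearMap.smul_apply, Module.End.one_apply, smul_smul] at h1 hv
    have hv0 : v ≠ 0 := fun h => hv (by rw [h, smul_zero])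
    have hc0 : c ≠ 0 := fun h => hv (by rw [h, zero_smul])
    have h2 : c * c = c := smul_left_injective ℂ hv0 h1
    exact mul_left_cancel₀ hc0 (h2.trans (mul_one c).symm)
  rw [hcc, one_smul] at hc
  refine hE1 (sub_eq_zero.mp (hΦinj _ ?_))
  have h3 := hΦadd (E - 1) 1
  rw [sub_add_cancel, hΦ1, show Φ E = 1 from hc] at h3
  refine LinearMap.ext fun w => ?_
  have h4 := LinearMap.congr_fun h3 w
  rw [LinearMap.add_apply] at h4
  exact add_eq_right.mp h4.symm

end Cfsg.Agent.Char.Berger
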